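import Cfsg.Agent.Spectra.UThreeFourGraph.Pairs

/-!
# Arbitrarily large groups with the prime graph of `SU(3,4)`
-/

set_option autoImplicit false

namespace Cfsg.Agent.Spectra.UThreeFourGraph

theorem ok12_one : ok12 one12 = true := by decide +kernel

theorem ok12_pow {x : Pair} (hx : ok2 x = true) : ∀ n, ok12 (pow2 x n).2 = true
  | 0 => ok12_one
  | n + 1 => by
    simp only [ok2, Bool.and_eq_true] at hx
    exact ok12_mul12 hx.2

theorem mat12_pow {x : Pair} (hx : ok2 x = true) (n : ℕ) : mat12 x.2 ^ n = mat12 (pow2 x n).2 := by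
  have hx2 : ok12 x.2 = true := by simp only [ok2, Bool.and_eq_true] at hx; exact hx.2
  induction n with
  | zero => rw [pow_zero]; exact mat12_one.symm
  | succ n ih => rw [pow2, mul2, mul12_spec hx2 (ok12_pow hx n), pow_succ', ih]

theorem mat3_pow {x : Pair} (hx : ok2 x = true) (n : ℕ) : ofMat (toMat x.1 ^ n) = (pow2 x n).1 := by
  have hx1 : x.1.unit = true := by simp only [ok2, Bool.and_eq_true] at hx; exact hx.1
  induction n with
  | zero => rw [pow_zero, ofMat_one]; rfl
  | succ n ih => rw [pow_succ', ofMat_mul, ih, ofMat_toMat (unit_ok hx1)]; rfl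

theorem gen_pow_one : mat12 (at2 genPairs 0).2 ^ 10 = 1 ∧ mat12 (at2 genPairs 1).2 ^ 15 = 1 ∧
    toMat (at2 genPairs 0).1 ^ 10 = 1 ∧ toMat (at2 genPairs 1).1 ^ 15 = 1 := by
  have h := gen_orders
  simp only [Bool.and_eq_true, eqb2_iff] at h
  refine ⟨?_, ?_, ofMat_injective ?_, ofMat_injective ?_⟩
  · rw [mat12_pow (ok_gen (by norm_num)), h.1.1.1]; exact mat12_one
  · rw [mat12_pow (ok_gen (by norm_num)), h.1.1.2]; exact mat12_one
  · rw [mat3_pow (ok_gen (by norm_num)), h.1.1.1, ofMat_one]; rfl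
  · rw [mat3_pow (ok_gen (by norm_num)), h.1.1.2, ofMat_one]; rfl

namespace Model

variable {L : Type} [Group L] (M : Model L)

/-- The first generator. -/
noncomputable def genA : L × Mat12ˣ :=
  ((M.lift _ (unitOne_of_unit (Bool.and_eq_true _ _ ▸ ok_gen (i := 0) (by norm_num)).1)).choose,
    Units.ofPowEqOne _ 10 gen_pow_one.1 (by norm_num))

/-- The second generator. -/
noncomputable def genB : L × Mat12ˣ :=
  ((M.lift _ (unitOne_of_unit (Bool.and_eq_true _ _ ▸ ok_gen (i := 1) (by norm_num)).1)).choose,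
    Units.ofPowEqOne _ 15 gen_pow_one.2.1 (by norm_num))

/-- The generated group. -/
noncomputable def twinBase : Subgroup (L × Mat12ˣ) := Subgroup.closure {M.genA, M.genB}

/-- The pair of matrices. -/
def toPair : L × Mat12ˣ →* MPair := M.rho.prodMap (Units.coeHom Mat12)

theorem toPair_injective : Function.Injective M.toPair := fun x y h =>
  Prod.ext (M.inj (congrArg Prod.fst h)) (Units.ext (congrArg Prod.snd h))

theorem genA_val : M.toPair M.genA = R genPairs 0 :=
  Prod.ext ((M.lift _ (unitOne_of_unit (Bool.and_eq_true _ _ ▸ ok_gen (i := 0) (by norm_num)).1)).choose_spec) rfl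

theorem genB_val : M.toPair M.genB = R genPairs 1 :=
  Prod.ext ((M.lift _ (unitOne_of_unit (Bool.and_eq_true _ _ ▸ ok_gen (i := 1) (by norm_num)).1)).choose_spec) rfl

theorem gen_pows : M.genA ^ 10 = 1 ∧ M.genB ^ 15 = 1 := by
  refine ⟨M.toPair_injective ?_, M.toPair_injective ?_⟩
  · rw [map_pow, genA_val, map_one]; exact Prod.ext gen_pow_one.2.2.1 gen_pow_one.1
  · rw [map_pow, genB_val, map_one]; exact Prod.ext gen_pow_one.2.2.2 gen_pow_one.2.1

theorem toPair_mem {x : L × Mat12ˣ} (hx : x ∈ M.twinBase) : M.toPair x ∈ topSet := by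
  refine closure_subset ?_
  have hinv : ∀ g : L × Mat12ˣ, g ^ 10 = 1 ∨ g ^ 15 = 1 → ∃ n : ℕ, g⁻¹ = g ^ n := fun g h => by
    rcases h with h | h
    · exact ⟨9, inv_eq_of_mul_eq_one_right (by rw [← pow_succ', h])⟩
    · exact ⟨14, inv_eq_of_mul_eq_one_right (by rw [← pow_succ', h])⟩
  rw [twinBase, ← Subgroup.mem_toSubmonoid, Subgroup.closure_toSubmonoid] at hx
  have hle : Submonoid.closure ({M.genA, M.genB} ∪ ({M.genA, M.genB} : Set (L × Mat12ˣ))⁻¹) ≤
      (Submonoid.closure ({R genPairs 0, R genPairs 1} : Set MPair)).comap M.toPair := by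
    refine Submonoid.closure_le.mpr ?_
    have ha : M.genA ∈ (Submonoid.closure ({R genPairs 0, R genPairs 1} : Set MPair)).comap M.toPair := by
      rw [Submonoid.mem_comap, genA_val]; exact Submonoid.subset_closure (Or.inl rfl)
    have hb : M.genB ∈ (Submonoid.closure ({R genPairs 0, R genPairs 1} : Set MPair)).comap M.toPair := by
      rw [Submonoid.mem_comap, genB_val]; exact Submonoid.subset_closure (Or.inr rfl)
    rintro g (hg | hg)
    · rcases hg with rfl | rfl <;> assumption
    · rw [Set.mem_inv] at hg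
      rcases hg with e | e <;> rw [← inv_inv g, e]
      · obtain ⟨n, hn⟩ := hinv _ (Or.inl M.gen_pows.1); rw [hn]; exact Submonoid.pow_mem _ ha n
      · obtain ⟨n, hn⟩ := hinv _ (Or.inr M.gen_pows.2); rw [hn]; exact Submonoid.pow_mem _ hb n
  exact hle hx

theorem fst_injective {x y : M.twinBase} (h : (x : L × Mat12ˣ).1 = (y : L × Mat12ˣ).1) : x = y :=
  Subtype.ext (M.toPair_injective (topSet_fst_injective (M.toPair_mem x.2) (M.toPair_mem y.2) (congrArg M.rho h)))

theorem orderOf_fst (x : M.twinBase) : orderOf (x : L × Mat12ˣ).1 = orderOf x :=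
  orderOf_injective ((MonoidHom.fst L Mat12ˣ).comp M.twinBase.subtype) (fun _ _ h => M.fst_injective h) x

theorem finite_L (M : Model L) : Finite L := Nat.finite_of_card_ne_zero (by rw [M.card]; norm_num)

theorem finite_twinBase : Finite M.twinBase := by
  haveI := M.finite_L
  exact Finite.of_injective _ fun _ _ h => M.fst_injective h

theorem witnesses : ∃ a b z : M.twinBase, orderOf a = 10 ∧ orderOf b = 15 ∧ orderOf z = 13 ∧
    ((z : L × Mat12ˣ).2 : Mat12) = mat12 (at2 prodPair 0).2 := by
  have hn := gen_not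
  simp only [Bool.and_eq_true, Bool.not_eq_true'] at hn
  have hg := gen_orders
  simp only [Bool.and_eq_true, eqb2_iff] at hg
  have fstA : ∀ n, ofMat (M.rho (M.genA ^ n).1) = (pow2 (at2 genPairs 0) n).1 := fun n => by
    rw [← mat3_pow (ok_gen (by norm_num))]
    exact congrArg (fun p : MPair => ofMat p.1) (show M.toPair (M.genA ^ n) = (R genPairs 0) ^ n by rw [map_pow, genA_val])
  have fstB : ∀ n, ofMat (M.rho (M.genB ^ n).1) = (pow2 (at2 genPairs 1) n).1 := fun n => by
    rw [← mat3_pow (ok_gen (by norm_num))]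
    exact congrArg (fun p : MPair => ofMat p.1) (show M.toPair (M.genB ^ n) = (R genPairs 1) ^ n by rw [map_pow, genB_val])
  have eone : ∀ {g : L × Mat12ˣ} {c : M9}, ofMat (M.rho g.1) = c → c.eqb one9 = false → g ≠ 1 := by
    intro g c e hc h
    rw [h] at e
    have : ofMat (M.rho (1 : L)) = c := e
    rw [map_one, ofMat_one] at this
    rw [← this, (M9.eqb_iff one9 one9).mpr rfl] at hc
    exact Bool.noConfusion hc
  let a : M.twinBase := ⟨M.genA, Subgroup.subset_closure (Or.inl rfl)⟩
  let b : M.twinBase := ⟨M.genB, Subgroup.subset_closure (Or.inr rfl)⟩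
  have hz : M.toPair (M.genA * M.genB) = R prodPair 0 := by
    rw [map_mul, genA_val, genB_val, R, R, real_mul (ok_gen (by norm_num)) (ok_gen (by norm_num)), hg.1.2]
    rfl
  have hprod : ok2 (at2 prodPair 0) = true := by
    have h := ok_all; simp only [Bool.and_eq_true] at h; exact h.1.1.1.1.2
  refine ⟨a, b, a * b, ?_, ?_, ?_, congrArg Prod.snd hz⟩
  · have h10 : a ^ 10 = 1 := Subtype.ext M.gen_pows.1
    have hd := orderOf_dvd_of_pow_eq_one h10
    have h5 : ¬ orderOf a ∣ 5 := fun h => eone (fstA 5) hn.1.1.1.1.1.1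
      (congrArg Subtype.val (orderOf_dvd_iff_pow_eq_one.mp h))
    have h2 : ¬ orderOf a ∣ 2 := fun h => eone (fstA 2) hn.1.1.1.1.1.2
      (congrArg Subtype.val (orderOf_dvd_iff_pow_eq_one.mp h))
    have hle : orderOf a ≤ 10 := Nat.le_of_dvd (by norm_num) hd
    interval_cases (orderOf a) <;> omega
  · have h15 : b ^ 15 = 1 := Subtype.ext M.gen_pows.2
    have hd := orderOf_dvd_of_pow_eq_one h15
    have h5 : ¬ orderOf b ∣ 5 := fun h => eone (fstB 5) hn.1.1.1.1.2
      (congrArg Subtype.val (orderOf_dvd_iff_pow_eq_one.mp h))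
    have h3 : ¬ orderOf b ∣ 3 := fun h => eone (fstB 3) hn.1.1.1.2
      (congrArg Subtype.val (orderOf_dvd_iff_pow_eq_one.mp h))
    have hle : orderOf b ≤ 15 := Nat.le_of_dvd (by norm_num) hd
    interval_cases (orderOf b) <;> omega
  · haveI : Fact (Nat.Prime 13) := ⟨by norm_num⟩
    refine orderOf_eq_prime (Subtype.ext (M.toPair_injective ?_)) fun h => ?_
    · show M.toPair ((M.genA * M.genB) ^ 13) = M.toPair 1
      rw [map_pow, hz, map_one]
      have e1 : toMat (at2 prodPair 0).1 ^ 13 = 1 := ofMat_injective (by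
        rw [mat3_pow hprod, hg.2, ofMat_one]; rfl)
      have e2 : mat12 (at2 prodPair 0).2 ^ 13 = 1 := by
        rw [mat12_pow hprod, hg.2]; exact mat12_one
      show ((toMat (at2 prodPair 0).1, mat12 (at2 prodPair 0).2) : MPair) ^ 13 = 1
      rw [Prod.pow_mk, e1, e2]
      rfl
    · refine eone (g := M.genA * M.genB) (c := (at2 prodPair 0).1) ?_ hn.1.1.2 (congrArg Subtype.val h)
      rw [show M.rho (M.genA * M.genB).1 = (R prodPair 0).1 from congrArg Prod.fst hz]
      exact ofMat_toMat (unit_ok ok_prod.1)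

/-- Elements of order thirteen fix no nonzero vector. -/
theorem thirteen_fixed_point_free {y : M.twinBase} (hy : orderOf y = 13) {v : Fin 12 → ZMod 5}
    (hv : ((y : L × Mat12ˣ).2 : Mat12).mulVec v = v) : v = 0 := by
  haveI := M.finite_twinBase
  haveI : Fact (Nat.Prime 13) := ⟨by norm_num⟩
  haveI := M.finite_L
  obtain ⟨-, -, z, -, -, hz, hzval⟩ := M.witnesses
  have hcard : Nat.card M.twinBase ∣ Nat.card L := by
    exact Subgroup.card_dvd_of_injective ((MonoidHom.fst L Mat12ˣ).comp M.twinBase.subtype)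
      fun _ _ h => M.fst_injective h
  have hf : (Nat.card M.twinBase).factorization 13 = 1 := by
    refine le_antisymm ?_ ((by norm_num : Nat.Prime 13).factorization_pos_of_dvd Nat.card_pos.ne'
      (hz ▸ orderOf_dvd_natCard z))
    by_contra hlt
    exact absurd ((((pow_dvd_pow 13 (not_le.mp hlt)).trans (Nat.ordProj_dvd _ 13)).trans hcard).trans
      (dvd_of_eq M.card)) (by norm_num)
  let S := Sylow.ofCard (p := 13) (Subgroup.zpowers y) (by rw [Nat.card_zpowers, hy, hf, pow_one])
  let T := Sylow.ofCard (p := 13) (Subgroup.zpowers z) (by rw [Nat.card_zpowers, hz, hf, pow_one])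
  obtain ⟨g, hg⟩ := MulAction.exists_smul_eq M.twinBase S T
  have hx : z ∈ (T : Subgroup M.twinBase) := Subgroup.mem_zpowers z
  rw [← hg, Sylow.coe_subgroup_smul] at hx
  obtain ⟨w, hw, he⟩ := hx
  obtain ⟨k, rfl⟩ := mem_powers_iff_mem_zpowers.mpr (show w ∈ Subgroup.zpowers y from hw)
  let ρ : M.twinBase →* Mat12 := (Units.coeHom Mat12).comp ((MonoidHom.snd L Mat12ˣ).comp M.twinBase.subtype)
  have hpow : ∀ n : ℕ, (ρ y ^ n).mulVec v = v := by
    intro n
    induction n with
    | zero => simp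
    | succ n ih => rw [pow_succ, ← Matrix.mulVec_mulVec, show (ρ y).mulVec v = v from hv, ih]
  have hzfix : (ρ z).mulVec ((ρ g).mulVec v) = (ρ g).mulVec v := by
    rw [Matrix.mulVec_mulVec, ← map_mul, show z = g * y ^ k * g⁻¹ from he.symm, inv_mul_cancel_right,
      map_mul, ← Matrix.mulVec_mulVec, map_pow, hpow]
  have h0 : (ρ g).mulVec v = 0 := by
    have e := congrArg (fun A : Mat12 => A.mulVec ((ρ g).mulVec v)) fixed_check
    simp only [← Matrix.mulVec_mulVec, Matrix.sub_mulVec, Matrix.one_mulVec] at e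
    rw [show mat12 (at2 prodPair 0).2 = ρ z from hzval.symm, hzfix, sub_self, Matrix.mulVec_zero] at e
    exact e.symm
  have := congrArg (ρ g⁻¹).mulVec h0
  rwa [Matrix.mulVec_mulVec, ← map_mul, inv_mul_cancel, map_one, Matrix.one_mulVec, Matrix.mulVec_zero] at this

/-- The module, several copies. -/
abbrev Space (k : ℕ) : Type := Fin k → Fin 12 → ZMod 5

/-- The action on several copies. -/
def spaceAct (k : ℕ) : M.twinBase →* MulAut (Multiplicative (Space k)) where
  toFun g :=
    { toFun := fun v => Multiplicative.ofAdd fun i => ((g : L × Mat12ˣ).2 : Mat12).mulVec (Multiplicative.toAdd v i)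
      invFun := fun v => Multiplicative.ofAdd fun i =>
        (((g : L × Mat12ˣ).2⁻¹ : Mat12ˣ) : Mat12).mulVec (Multiplicative.toAdd v i)
      left_inv := fun v => by
        apply Multiplicative.toAdd.injective; funext i
        simp [Matrix.mulVec_mulVec]
      right_inv := fun v => by
        apply Multiplicative.toAdd.injective; funext i
        simp [Matrix.mulVec_mulVec]
      map_mul' := fun v w => by
        apply Multiplicative.toAdd.injective; funext i
        simp [Matrix.mulVec_add] }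
  map_one' := by ext v; simp
  map_mul' g h := by ext v; simp [Matrix.mulVec_mulVec]

/-- The large group. -/
abbrev Twin (k : ℕ) : Type := Multiplicative (Space k) ⋊[M.spaceAct k] M.twinBase

theorem space_pow_five {k : ℕ} (v : Multiplicative (Space k)) : v ^ 5 = 1 := by
  apply Multiplicative.toAdd.injective
  funext i j
  show (5 : ℕ) • Multiplicative.toAdd v i j = 0
  rw [nsmul_eq_mul, CharP.cast_eq_zero, zero_mul]

theorem order_bounds {k : ℕ} (x : M.Twin k) :
    orderOf x.right ∣ orderOf x ∧ orderOf x ∣ 5 * orderOf x.right := by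
  refine ⟨orderOf_map_dvd SemidirectProduct.rightHom x, orderOf_dvd_of_pow_eq_one ?_⟩
  rw [mul_comm, pow_mul]
  set y := x ^ orderOf x.right with hy
  have hr : y.right = 1 := by
    rw [hy, ← SemidirectProduct.rightHom_eq_right, map_pow]; exact pow_orderOf_eq_one _
  have : y = SemidirectProduct.inl y.left := SemidirectProduct.ext rfl (by simpa using hr)
  rw [this, ← map_pow, space_pow_five, map_one]

theorem no_bad_order_twin {k : ℕ} {p q : ℕ} (hb : BadPair p q) (x : M.Twin k) : orderOf x ≠ p * q := by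
  haveI := M.finite_L
  intro h
  obtain ⟨hd1, hd2⟩ := M.order_bounds x
  rw [h] at hd1 hd2
  set m := orderOf x.right with hm
  have hno : ¬ p * q ∣ m := by rw [hm, ← M.orderOf_fst]; exact M.no_bad_order hb _
  have hb' := hb
  simp only [BadPair, List.mem_cons, Prod.mk.injEq, List.not_mem_nil, or_false] at hb'
  rcases hb' with ⟨rfl, rfl⟩ | ⟨rfl, rfl⟩ | ⟨rfl, rfl⟩ | ⟨rfl, rfl⟩
  · exact hno (Nat.Coprime.dvd_of_dvd_mul_left (by norm_num) hd2)
  · exact hno (Nat.Coprime.dvd_of_dvd_mul_left (by norm_num) hd2)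
  · exact hno (Nat.Coprime.dvd_of_dvd_mul_left (by norm_num) hd2)
  have hm13 : m = 13 := by
    have h13 : 13 ∣ m := Nat.Coprime.dvd_of_dvd_mul_left (by norm_num) ((dvd_mul_left 13 5).trans hd2)
    rcases (Nat.dvd_mul.mp hd1) with ⟨a, b, ha, hb, e⟩
    rcases (Nat.dvd_prime Nat.prime_five).mp ha with rfl | rfl
    · rcases (Nat.dvd_prime (by norm_num : Nat.Prime 13)).mp hb with rfl | rfl <;> omega
    · exfalso
      exact hno (Nat.Coprime.mul_dvd_of_dvd_of_dvd (by norm_num) ⟨b, e.symm⟩ h13)
  set y := x ^ 13 with hy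
  have hr : y.right = 1 := by
    rw [hy, ← SemidirectProduct.rightHom_eq_right, map_pow, ← hm13]; exact pow_orderOf_eq_one _
  have hcomm : x * y = y * x := (Commute.self_pow x 13).eq
  have hfix : M.spaceAct k x.right y.left = y.left := by
    have := congrArg SemidirectProduct.left hcomm
    rw [SemidirectProduct.mul_left, SemidirectProduct.mul_left, hr, map_one, MulAut.one_apply, mul_comm y.left] at this
    exact mul_left_cancel this
  have hzero : y.left = 1 := by
    apply Multiplicative.toAdd.injective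
    funext i
    exact M.thirteen_fixed_point_free hm13 (congrFun (congrArg Multiplicative.toAdd hfix) i)
  have : x ^ 13 = 1 := SemidirectProduct.ext hzero hr
  have := orderOf_dvd_of_pow_eq_one this
  rw [h] at this
  norm_num at this

theorem prime_mem {p : ℕ} (hp : p.Prime) (h : p ∣ 62400) : p ∈ [2, 3, 5, 13] := by
  have h' : p ∣ 2 ^ 6 * 3 * 5 ^ 2 * 13 := by norm_num; exact h
  simp only [hp.dvd_mul] at h'
  simp only [List.mem_cons, List.not_mem_nil, or_false]
  rcases h' with ((h | h) | h) | h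
  · exact Or.inl ((Nat.prime_dvd_prime_iff_eq hp Nat.prime_two).mp (hp.dvd_of_dvd_pow h))
  · exact Or.inr (Or.inl ((Nat.prime_dvd_prime_iff_eq hp Nat.prime_three).mp h))
  · exact Or.inr (Or.inr (Or.inl ((Nat.prime_dvd_prime_iff_eq hp Nat.prime_five).mp (hp.dvd_of_dvd_pow h))))
  · exact Or.inr (Or.inr (Or.inr ((Nat.prime_dvd_prime_iff_eq hp (by norm_num)).mp h)))

theorem card_twin (k : ℕ) : Nat.card (M.Twin k) = 5 ^ (12 * k) * Nat.card M.twinBase := by
  rw [SemidirectProduct.card, Nat.card_eq_of_bijective _ Multiplicative.toAdd.bijective, Nat.card_fun,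
    Nat.card_fun, Nat.card_zmod, Nat.card_fin, Nat.card_fin, ← pow_mul]

theorem card_facts : Nat.card M.twinBase ∣ 62400 ∧ ∀ p ∈ [2, 3, 5, 13], p ∣ Nat.card M.twinBase := by
  haveI := M.finite_twinBase
  refine ⟨M.card ▸ Subgroup.card_dvd_of_injective ((MonoidHom.fst L Mat12ˣ).comp M.twinBase.subtype)
    fun _ _ h => M.fst_injective h, ?_⟩
  obtain ⟨a, b, z, ha, hb, hz, -⟩ := M.witnesses
  intro p hp
  simp only [List.mem_cons, List.not_mem_nil, or_false] at hp
  rcases hp with rfl | rfl | rfl | rfl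
  · exact (by norm_num : 2 ∣ 10).trans (ha ▸ orderOf_dvd_natCard a)
  · exact (by norm_num : 3 ∣ 15).trans (hb ▸ orderOf_dvd_natCard b)
  · exact (by norm_num : 5 ∣ 15).trans (hb ▸ orderOf_dvd_natCard b)
  · exact hz ▸ orderOf_dvd_natCard z

theorem same_graph (k : ℕ) :
    (∀ p : ℕ, p.Prime → (p ∣ Nat.card L ↔ p ∣ Nat.card (M.Twin k))) ∧
    (∀ p q : ℕ, p.Prime → q.Prime → p ≠ q →
      ((∃ g : L, orderOf g = p * q) ↔ (∃ g : M.Twin k, orderOf g = p * q))) := by
  haveI := M.finite_L
  haveI := M.finite_twinBase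
  haveI : Finite (M.Twin k) := Finite.of_equiv _ SemidirectProduct.equivProd.symm
  obtain ⟨hdvd, hall⟩ := M.card_facts
  have hpr : ∀ p : ℕ, p.Prime → p ∣ Nat.card (M.Twin k) → p ∈ [2, 3, 5, 13] := fun p hp h => by
    rw [M.card_twin] at h
    rcases hp.dvd_mul.mp h with h | h
    · rw [(Nat.prime_dvd_prime_iff_eq hp Nat.prime_five).mp (hp.dvd_of_dvd_pow h)]
      simp
    · exact prime_mem hp (h.trans hdvd)
  refine ⟨fun p hp => ⟨fun h => ?_, fun h => ?_⟩, fun p q hp hq hne => ?_⟩
  · rw [M.card] at h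
    rw [M.card_twin]
    exact dvd_mul_of_dvd_right (hall p (prime_mem hp h)) _
  · rw [M.card]
    have := hpr p hp h
    simp only [List.mem_cons, List.not_mem_nil, or_false] at this
    rcases this with rfl | rfl | rfl | rfl <;> norm_num
  obtain ⟨a, b, -, ha, hb, -, -⟩ := M.witnesses
  have ha' : orderOf (a : L × Mat12ˣ).1 = 10 := (M.orderOf_fst a).trans ha
  have hb' : orderOf (b : L × Mat12ˣ).1 = 15 := (M.orderOf_fst b).trans hb
  have hainl : orderOf (SemidirectProduct.inr a : M.Twin k) = 10 :=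
    (orderOf_injective SemidirectProduct.inr SemidirectProduct.inr_injective a).trans ha
  have hbinl : orderOf (SemidirectProduct.inr b : M.Twin k) = 15 :=
    (orderOf_injective SemidirectProduct.inr SemidirectProduct.inr_injective b).trans hb
  have key : p ∈ [2, 3, 5, 13] → q ∈ [2, 3, 5, 13] →
      (p * q = 10 ∨ p * q = 15 ∨ BadPair p q ∨ BadPair q p) := by
    intro h1 h2
    simp only [List.mem_cons, List.not_mem_nil, or_false] at h1 h2
    rcases h1 with rfl | rfl | rfl | rfl <;> rcases h2 with rfl | rfl | rfl | rfl <;>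
      first | exact absurd rfl hne | simp [BadPair]
  constructor
  · rintro ⟨g, hg⟩
    have hd : p * q ∣ 62400 := M.card ▸ hg ▸ orderOf_dvd_natCard g
    rcases key (prime_mem hp (dvd_of_mul_right_dvd hd)) (prime_mem hq (dvd_of_mul_left_dvd hd))
      with h | h | h | h
    · exact ⟨_, hainl.trans h.symm⟩
    · exact ⟨_, hbinl.trans h.symm⟩
    · exact absurd (dvd_of_eq hg.symm) (M.no_bad_order h g)
    · exact absurd (dvd_of_eq (by rw [hg, mul_comm])) (M.no_bad_order h g)
  · rintro ⟨g, hg⟩
    have hd : p * q ∣ Nat.card (M.Twin k) := hg ▸ orderOf_dvd_natCard g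
    rcases key (hpr p hp (dvd_of_mul_right_dvd hd)) (hpr q hq (dvd_of_mul_left_dvd hd))
      with h | h | h | h
    · exact ⟨_, ha'.trans h.symm⟩
    · exact ⟨_, hb'.trans h.symm⟩
    · exact absurd hg (M.no_bad_order_twin h g)
    · exact absurd (hg.trans (mul_comm p q)) (M.no_bad_order_twin h g)

end Model

end Cfsg.Agent.Spectra.UThreeFourGraph
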