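import Cfsg.Agent.Spectra.UThreeFourGraph.Data

/-!
# Evaluation of the certificates
-/

set_option autoImplicit false
set_option Elab.async false
set_option maxRecDepth 100000

namespace Cfsg.Agent.Spectra.UThreeFourGraph

open Cfsg.Lib.PermCert Cfsg.Lib.Janko

abbrev Pair : Type := M9 × List ℕ

def one2 : Pair := (one9, one12)

def at2 (L : List Pair) (i : ℕ) : Pair := L.getD i one2

def mul2 (x y : Pair) : Pair := (x.1.mul y.1, mul12 x.2 y.2)

def eqb2 (x y : Pair) : Bool := x.1.eqb y.1 && x.2 == y.2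

theorem eqb2_iff (x y : Pair) : eqb2 x y = true ↔ x = y := by
  cases x; cases y; simp [eqb2, M9.eqb_iff]

def ok2 (x : Pair) : Bool := x.1.unit && ok12 x.2

def allBelow (n : ℕ) (f : ℕ → Bool) : Bool := (List.range n).all f

theorem of_allBelow {n : ℕ} {f : ℕ → Bool} (h : allBelow n f = true) : ∀ i < n, f i = true :=
  fun i hi => List.all_eq_true.mp h i (List.mem_range.mpr hi)

theorem ok_all : (allBelow 2 (fun i => ok2 (at2 genPairs i)) && allBelow 65 (fun i => ok2 (at2 upper i)) &&
    allBelow 64 (fun i => ok2 (at2 middle i)) && allBelow 15 (fun i => ok2 (at2 lower i)) &&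
    allBelow 2 (fun i => ok2 (at2 steps i)) && ok2 (at2 prodPair 0) && cyclicPerm.unit &&
    krylovInv.ok && ok12 fixedInv && ok12 one12) = true := by
  decide +kernel

theorem heads : (eqb2 (at2 upper 0) one2 && eqb2 (at2 middle 0) one2 && eqb2 (at2 lower 0) one2 &&
    eqb2 (at2 steps 1) (at2 lower 1)) = true := by
  decide +kernel

def topRow (s : ℕ) (i : ℕ) : ℕ × ℕ × ℕ := (if s == 0 then topTab0 else topTab1).getD i (65, 64, 15)

def topCheck (s : ℕ) : Bool :=
  allBelow 65 fun i =>
    Nat.blt (topRow s i).1 65 && Nat.blt (topRow s i).2.1 64 && Nat.blt (topRow s i).2.2 15 &&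
    eqb2 (mul2 (at2 genPairs s) (at2 upper i))
      (mul2 (at2 upper (topRow s i).1) (mul2 (at2 middle (topRow s i).2.1) (at2 lower (topRow s i).2.2)))

theorem top_zero : topCheck 0 = true := by decide +kernel

theorem top_one : topCheck 1 = true := by decide +kernel

def midRow (s : ℕ) (i : ℕ) : ℕ × ℕ := (if s == 0 then midTab0 else midTab1).getD i (64, 15)

def midCheck (s : ℕ) : Bool :=
  allBelow 64 fun i =>
    Nat.blt (midRow s i).1 64 && Nat.blt (midRow s i).2 15 &&
    eqb2 (mul2 (at2 steps s) (at2 middle i))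
      (mul2 (at2 middle (midRow s i).1) (at2 lower (midRow s i).2))

theorem mid_zero : midCheck 0 = true := by decide +kernel

theorem mid_one : midCheck 1 = true := by decide +kernel

theorem mid_tree : allBelow 64 (fun i => i == 0 ||
    (Nat.blt (middleTree.getD i (2, 64)).2 i && Nat.blt (middleTree.getD i (2, 64)).1 2 &&
      eqb2 (mul2 (at2 steps (middleTree.getD i (2, 64)).1) (at2 middle (middleTree.getD i (2, 64)).2))
        (at2 middle i))) = true := by
  decide +kernel

theorem lower_powers : allBelow 15 (fun k =>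
    eqb2 (mul2 (at2 lower 1) (at2 lower k)) (at2 lower ((k + 1) % 15))) = true := by
  decide +kernel

theorem base_ok : (baseOne.x == 1 && !(baseTwo.x == 0 && baseTwo.y == 0 && baseTwo.z == 0)) = true := by
  decide +kernel

theorem eig_middle : allBelow 64 (fun j => Nat.blt (eigOne.getD j 0) 16 && !(eigOne.getD j 0 == 0) &&
    ((at2 middle j).1.mulV baseOne).eqb (V3.smul (eigOne.getD j 0) baseOne)) = true := by
  decide +kernel

theorem eig_lower : allBelow 15 (fun k =>
    (Nat.blt (eigLowerOne.getD k 0) 16 && !(eigLowerOne.getD k 0 == 0) &&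
      ((at2 lower k).1.mulV baseOne).eqb (V3.smul (eigLowerOne.getD k 0) baseOne)) &&
    (Nat.blt (eigLowerTwo.getD k 0) 16 && !(eigLowerTwo.getD k 0 == 0) &&
      ((at2 lower k).1.mulV baseTwo).eqb (V3.smul (eigLowerTwo.getD k 0) baseTwo))) = true := by
  decide +kernel

theorem upper_distinct : allBelow 65 (fun i => allBelow i (fun j =>
    !V3.dep ((at2 upper i).1.mulV baseOne) ((at2 upper j).1.mulV baseOne))) = true := by
  decide +kernel

theorem middle_distinct : allBelow 64 (fun i => allBelow i (fun j =>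
    !V3.dep ((at2 middle i).1.mulV baseTwo) ((at2 middle j).1.mulV baseTwo))) = true := by
  decide +kernel

theorem lower_distinct : allBelow 15 (fun i => allBelow i (fun j =>
    !(at2 lower i).1.eqb (at2 lower j).1)) = true := by
  decide +kernel

def pow2 (x : Pair) : ℕ → Pair
  | 0 => one2
  | n + 1 => mul2 x (pow2 x n)

theorem gen_orders : (eqb2 (pow2 (at2 genPairs 0) 10) one2 && eqb2 (pow2 (at2 genPairs 1) 15) one2 &&
    eqb2 (mul2 (at2 genPairs 0) (at2 genPairs 1)) (at2 prodPair 0) &&
    eqb2 (pow2 (at2 prodPair 0) 13) one2) = true := by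
  decide +kernel

theorem gen_not : (!(pow2 (at2 genPairs 0) 5).1.eqb one9 && !(pow2 (at2 genPairs 0) 2).1.eqb one9 &&
    !(pow2 (at2 genPairs 1) 5).1.eqb one9 && !(pow2 (at2 genPairs 1) 3).1.eqb one9 &&
    !(at2 prodPair 0).1.eqb one9 && !cyclicPerm.eqb one9 &&
    (cyclicPerm.mul (cyclicPerm.mul cyclicPerm)).eqb one9) = true := by
  decide +kernel

theorem normal_relation : (cyclicPerm.mul (at2 prodPair 0).1).eqb
    (((at2 prodPair 0).1.mul ((at2 prodPair 0).1.mul (at2 prodPair 0).1)).mul cyclicPerm) = true := by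
  decide +kernel

theorem krylov_check : (M9.eqb ((fun z c => M9.mul ⟨1, z.e00, c.x, 0, z.e10, c.y, 0, z.e20, c.z⟩ krylovInv)
    (at2 prodPair 0).1 ((at2 prodPair 0).1.mulV ((at2 prodPair 0).1.mulV ⟨1, 0, 0⟩))) one9) = true := by
  decide +kernel

theorem fixed_check : mat12 fixedInv * (mat12 (at2 prodPair 0).2 - 1) = 1 := by decide +kernel

end Cfsg.Agent.Spectra.UThreeFourGraph
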