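import Cfsg.Agent.Spectra.UThreeFourGraph.Field

/-!
# Coded matrices over the field with sixteen elements
-/

set_option autoImplicit false

namespace Cfsg.Agent.Spectra.UThreeFourGraph

def mulTab : ℕ := 105869934573458929506328375061315679171845852290158294152364606998566138674788542437607012108590681290039201854413661647678221215878256740644142704492826533379271178812567475734100749217218550151073389438700294400309340617321998747341553871339115878427482513263866732641709495414604747141407345988080972595200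

def mu (x y : ℕ) : ℕ := (mulTab >>> (4 * (16 * x + y))) &&& 15

def enc (x : K16) : ℕ :=
  (x.re.re : ZMod 2).val + 2 * (x.re.im : ZMod 2).val + 4 * (x.im.re : ZMod 2).val + 8 * (x.im.im : ZMod 2).val

def dec (n : ℕ) : K16 :=
  ⟨⟨(n : ZMod 2), ((n / 2 : ℕ) : ZMod 2)⟩, ⟨((n / 4 : ℕ) : ZMod 2), ((n / 8 : ℕ) : ZMod 2)⟩⟩

theorem enc_facts : ∀ x : K16, dec (enc x) = x ∧
    ∀ y : K16, enc (x + y) = (enc x ^^^ enc y) ∧ enc (x * y) = mu (enc x) (enc y) := by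
  decide +kernel

theorem neg_K16 (x : K16) : -x = x := neg_eq_of_add_eq_zero_left (two_K16 x).1

theorem enc_dec : ∀ n : Fin 16, enc (dec n) = n := by decide +kernel

theorem enc_injective : Function.Injective enc := fun x y h => by
  rw [← (enc_facts x).1, h, (enc_facts y).1]

theorem enc_add (x y : K16) : enc (x + y) = (enc x ^^^ enc y) := ((enc_facts x).2 y).1

theorem enc_mul (x y : K16) : enc (x * y) = mu (enc x) (enc y) := ((enc_facts x).2 y).2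

structure V3 where
  x : ℕ
  y : ℕ
  z : ℕ

structure M9 where
  e00 : ℕ
  e01 : ℕ
  e02 : ℕ
  e10 : ℕ
  e11 : ℕ
  e12 : ℕ
  e20 : ℕ
  e21 : ℕ
  e22 : ℕ

def M9.eqb (m n : M9) : Bool :=
  m.e00 == n.e00 && m.e01 == n.e01 && m.e02 == n.e02 &&
  m.e10 == n.e10 && m.e11 == n.e11 && m.e12 == n.e12 &&
  m.e20 == n.e20 && m.e21 == n.e21 && m.e22 == n.e22

theorem M9.eqb_iff (m n : M9) : m.eqb n = true ↔ m = n := by
  cases m; cases n
  simp [M9.eqb, and_assoc]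

def one9 : M9 := ⟨1, 0, 0, 0, 1, 0, 0, 0, 1⟩

def dot3 (a b c x y z : ℕ) : ℕ := (mu a x ^^^ mu b y) ^^^ mu c z

def M9.mul (m n : M9) : M9 :=
  ⟨dot3 m.e00 m.e01 m.e02 n.e00 n.e10 n.e20, dot3 m.e00 m.e01 m.e02 n.e01 n.e11 n.e21,
   dot3 m.e00 m.e01 m.e02 n.e02 n.e12 n.e22,
   dot3 m.e10 m.e11 m.e12 n.e00 n.e10 n.e20, dot3 m.e10 m.e11 m.e12 n.e01 n.e11 n.e21,
   dot3 m.e10 m.e11 m.e12 n.e02 n.e12 n.e22,
   dot3 m.e20 m.e21 m.e22 n.e00 n.e10 n.e20, dot3 m.e20 m.e21 m.e22 n.e01 n.e11 n.e21,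
   dot3 m.e20 m.e21 m.e22 n.e02 n.e12 n.e22⟩

def M9.mulV (m : M9) (v : V3) : V3 :=
  ⟨dot3 m.e00 m.e01 m.e02 v.x v.y v.z, dot3 m.e10 m.e11 m.e12 v.x v.y v.z,
   dot3 m.e20 m.e21 m.e22 v.x v.y v.z⟩

/-- The three cross terms all vanish. -/
def V3.dep (v w : V3) : Bool :=
  mu v.x w.y == mu v.y w.x && mu v.x w.z == mu v.z w.x && mu v.y w.z == mu v.z w.y

def V3.smul (c : ℕ) (v : V3) : V3 := ⟨mu c v.x, mu c v.y, mu c v.z⟩

def V3.eqb (v w : V3) : Bool := v.x == w.x && v.y == w.y && v.z == w.z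

theorem V3.eqb_iff (v w : V3) : v.eqb w = true ↔ v = w := by
  cases v; cases w
  simp [V3.eqb, and_assoc]

def q4 (x : ℕ) : ℕ := mu (mu x x) (mu x x)

def M9.det (m : M9) : ℕ :=
  ((((mu (mu m.e00 m.e11) m.e22 ^^^ mu (mu m.e00 m.e12) m.e21) ^^^ mu (mu m.e01 m.e10) m.e22) ^^^
    mu (mu m.e01 m.e12) m.e20) ^^^ mu (mu m.e02 m.e10) m.e21) ^^^ mu (mu m.e02 m.e11) m.e20

def M9.ok (m : M9) : Bool :=
  Nat.blt m.e00 16 && Nat.blt m.e01 16 && Nat.blt m.e02 16 &&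
  Nat.blt m.e10 16 && Nat.blt m.e11 16 && Nat.blt m.e12 16 &&
  Nat.blt m.e20 16 && Nat.blt m.e21 16 && Nat.blt m.e22 16

/-- The code represents a member of the special unitary group. -/
def M9.unit (m : M9) : Bool :=
  m.ok && ((M9.mul ⟨m.e00, m.e10, m.e20, m.e01, m.e11, m.e21, m.e02, m.e12, m.e22⟩
    ⟨q4 m.e00, q4 m.e01, q4 m.e02, q4 m.e10, q4 m.e11, q4 m.e12, q4 m.e20, q4 m.e21, q4 m.e22⟩).eqb one9 &&
      m.det == 1)

abbrev Mat3 : Type := Matrix (Fin 3) (Fin 3) K16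

def ofMat (A : Mat3) : M9 :=
  ⟨enc (A 0 0), enc (A 0 1), enc (A 0 2), enc (A 1 0), enc (A 1 1), enc (A 1 2),
   enc (A 2 0), enc (A 2 1), enc (A 2 2)⟩

def toMat (m : M9) : Mat3 :=
  !![dec m.e00, dec m.e01, dec m.e02; dec m.e10, dec m.e11, dec m.e12;
     dec m.e20, dec m.e21, dec m.e22]

def ofVec (v : Fin 3 → K16) : V3 := ⟨enc (v 0), enc (v 1), enc (v 2)⟩

theorem ofMat_injective : Function.Injective ofMat := by
  intro A B h
  simp only [ofMat, M9.mk.injEq, enc_injective.eq_iff] at h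
  ext i j : 1
  fin_cases i <;> fin_cases j <;> simp [h]

theorem ofMat_mul (A B : Mat3) : ofMat (A * B) = (ofMat A).mul (ofMat B) := by
  simp only [ofMat, M9.mul, dot3, Matrix.mul_apply, Fin.sum_univ_three, enc_add, enc_mul]

theorem ofVec_mulVec (A : Mat3) (v : Fin 3 → K16) : ofVec (A.mulVec v) = (ofMat A).mulV (ofVec v) := by
  simp only [ofVec, ofMat, M9.mulV, dot3, Matrix.mulVec, dotProduct, Fin.sum_univ_three, enc_add, enc_mul]

theorem ofMat_one : ofMat 1 = one9 := (M9.eqb_iff _ _).mp (by decide +kernel)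

theorem ofMat_toMat {m : M9} (h : m.ok = true) : ofMat (toMat m) = m := by
  obtain ⟨a, b, c, d, e, f, g, i, j⟩ := m
  simp only [M9.ok, Bool.and_eq_true, Nat.blt_eq] at h
  obtain ⟨⟨⟨⟨⟨⟨⟨⟨ha, hb⟩, hc⟩, hd⟩, he⟩, hf⟩, hg⟩, hi⟩, hj⟩ := h
  simp only [ofMat, toMat, Matrix.cons_val', Matrix.cons_val_zero, Matrix.cons_val_one,
    Matrix.cons_val_fin_one, Matrix.of_apply, Matrix.cons_val, M9.mk.injEq]
  exact ⟨enc_dec ⟨a, ha⟩, enc_dec ⟨b, hb⟩, enc_dec ⟨c, hc⟩, enc_dec ⟨d, hd⟩, enc_dec ⟨e, he⟩,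
    enc_dec ⟨f, hf⟩, enc_dec ⟨g, hg⟩, enc_dec ⟨i, hi⟩, enc_dec ⟨j, hj⟩⟩

theorem unitOne_of_unit {m : M9} (h : m.unit = true) : UnitOne (toMat m) := by
  simp only [M9.unit, Bool.and_eq_true, M9.eqb_iff, beq_iff_eq] at h
  obtain ⟨hok, hmul, hdet⟩ := h
  rw [← ofMat_toMat hok] at hmul hdet
  set A := toMat m
  constructor
  · apply ofMat_injective
    rw [ofMat_mul, ofMat_one, ← hmul]
    simp only [ofMat, q4, Matrix.transpose_apply, Matrix.map_apply, enc_mul]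
  · apply enc_injective
    rw [show enc A.det = (ofMat A).det by
      simp only [ofMat, M9.det, Matrix.det_fin_three, enc_add, enc_mul,
        sub_eq_add_neg, neg_K16]]
    rw [hdet]
    decide +kernel

end Cfsg.Agent.Spectra.UThreeFourGraph
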