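import Mathlib
import Cfsg.Prelude.Def_Classical

/-!
# The field with sixteen elements, concretely
-/

set_option autoImplicit false

namespace Cfsg.Agent.Spectra.UThreeFourGraph

/-- Four elements. -/
abbrev K4 : Type := QuadraticAlgebra (ZMod 2) 1 1

/-- Sixteen elements. -/
abbrev K16 : Type := QuadraticAlgebra K4 (⟨0, 1⟩ : K4) 1

instance : Fintype K4 := Fintype.ofEquiv _ (QuadraticAlgebra.equivProd (1 : ZMod 2) 1).symm

instance : Fintype K16 := Fintype.ofEquiv _ (QuadraticAlgebra.equivProd (⟨0, 1⟩ : K4) 1).symm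

theorem card_K16 : Fintype.card K16 = 16 := by
  rw [Fintype.card_congr (QuadraticAlgebra.equivProd (⟨0, 1⟩ : K4) 1), Fintype.card_prod,
    Fintype.card_congr (QuadraticAlgebra.equivProd (1 : ZMod 2) 1), Fintype.card_prod, ZMod.card]

theorem two_K16 : ∀ x : K16, x + x = 0 ∧ x ^ 16 = x := by decide +kernel

theorem inverses_K16 : ∀ a : K16, a = 0 ∨ ∃ b : K16, a * b = 1 := by decide +kernel

/-- Unitary of determinant one. -/
def UnitOne {R : Type*} [CommRing R] (A : Matrix (Fin 3) (Fin 3) R) : Prop :=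
  A.transpose * A.map (fun a => (a * a) * (a * a)) = 1 ∧ A.det = 1

variable {F : Type*} [Field F] [Fintype F]

theorem charP_two (hF : Fintype.card F = 16) : CharP F 2 := by
  obtain ⟨p, hp⟩ := CharP.exists F
  obtain ⟨n, hprime, hn⟩ := FiniteField.card F p
  have h : p ∣ 2 ^ 4 := (show (16 : ℕ) = 2 ^ 4 by norm_num) ▸ hF ▸ hn ▸ dvd_pow_self p n.pos.ne'
  exact (Nat.prime_dvd_prime_iff_eq hprime Nat.prime_two).mp (hprime.dvd_of_dvd_pow h) ▸ hp

theorem exists_hom (hF : Fintype.card F = 16) : ∃ φ : K16 →+* F, Function.Bijective φ := by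
  haveI := charP_two hF
  letI : Algebra (ZMod 2) F := ZMod.algebra F 2
  obtain ⟨η, hη⟩ : ∃ η : Fˣ, orderOf η = 5 := by
    haveI : Fact (Nat.Prime 5) := ⟨by norm_num⟩
    exact exists_prime_orderOf_dvd_card' 5 (by rw [Nat.card_units, Nat.card_eq_fintype_card, hF]; norm_num)
  set e : F := (η : F) with he
  have h5 : e ^ 5 = 1 := by
    rw [he, ← Units.val_pow_eq_pow_val, ← hη, pow_orderOf_eq_one, Units.val_one]
  have hne : e ≠ 1 := fun h => by
    rw [Units.val_eq_one.mp h, orderOf_one] at hη; norm_num at hη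
  have hsum : e ^ 4 + e ^ 3 + e ^ 2 + e + 1 = 0 := by
    have : (e - 1) * (e ^ 4 + e ^ 3 + e ^ 2 + e + 1) = 0 := by linear_combination h5
    exact (mul_eq_zero.mp this).resolve_left (sub_ne_zero.mpr hne)
  have h2 : (2 : F) = 0 := CharP.cast_eq_zero F 2
  set s : F := e + e ^ 4 with hs
  have hs2 : s * s = 1 + s := by
    rw [hs]
    linear_combination (2 + e ^ 3) * h5 + hsum + (-(e + e ^ 4)) * h2
  let f : K4 →ₐ[ZMod 2] F := QuadraticAlgebra.lift ⟨s, by rw [one_smul, one_smul]; exact hs2⟩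
  letI : Algebra K4 F := f.toRingHom.toAlgebra
  have hω : algebraMap K4 F ⟨0, 1⟩ = s := by
    show f ⟨0, 1⟩ = s
    simp [f, QuadraticAlgebra.lift]
  set y : F := e * (s * s) with hy
  have hy2 : y * y = s + y := by
    have : e * e + s * e + 1 = 0 := by rw [hs]; linear_combination h5 + (e ^ 2 + 1) * h2
    have hs3 : s ^ 3 = 1 := by linear_combination (s + 1) * hs2 + s * h2
    rw [hy]
    linear_combination s ^ 4 * this - (e * s ^ 2 + s) * hs3 - (e * s ^ 2 + s) * h2
  let g : K16 →ₐ[K4] F := QuadraticAlgebra.lift ⟨y, by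
    rw [one_smul, Algebra.smul_def, mul_one, hω]; exact hy2⟩
  have hinj : Function.Injective g := by
    rw [injective_iff_map_eq_zero]
    intro a ha
    rcases inverses_K16 a with h | ⟨b, hb⟩
    · exact h
    · have := congrArg g hb
      rw [map_mul, ha, zero_mul, map_one] at this
      exact absurd this zero_ne_one
  refine ⟨g.toRingHom, (Fintype.bijective_iff_injective_and_card _).mpr ⟨hinj, ?_⟩⟩
  rw [hF, card_K16]

theorem mem_SU_iff [CharP F 2] (g : Matrix.SpecialLinearGroup (Fin 3) F) :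
    g ∈ Cfsg.SU 3 F 4 ↔ (g : Matrix (Fin 3) (Fin 3) F).transpose
      * (g : Matrix (Fin 3) (Fin 3) F).map (fun a => (a * a) * (a * a)) = 1 := by
  haveI : Fact (Nat.Prime 2) := ⟨Nat.prime_two⟩
  set A := (g : Matrix (Fin 3) (Fin 3) F) with hA
  have h4 : ∀ a b : F, (a + b) ^ 4 = a ^ 4 + b ^ 4 := fun a b => by
    rw [show (4 : ℕ) = 2 * 2 from rfl, pow_mul, pow_mul, pow_mul, add_pow_char, add_pow_char]
  have hform : ∀ u v : Fin 3 → F, Cfsg.hermForm 3 F 4 (A.mulVec u) (A.mulVec v)
      = dotProduct u ((A.transpose * A.map (fun a => (a * a) * (a * a))).mulVec (fun j => v j ^ 4)) := by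
    intro u v
    simp only [Cfsg.hermForm, Matrix.mulVec, dotProduct, Matrix.mul_apply, Matrix.transpose_apply,
      Matrix.map_apply, Fin.sum_univ_three, h4, mul_pow]
    ring
  constructor
  · intro h
    ext i j
    have := h (Pi.single i 1) (Pi.single j 1)
    change Cfsg.hermForm 3 F 4 (A.mulVec _) (A.mulVec _) = _ at this
    rw [hform] at this
    have hv : (fun k => (Pi.single j (1 : F) : Fin 3 → F) k ^ 4) = Pi.single j 1 := by
      funext k
      by_cases hk : k = j
      · subst hk; simp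
      · simp [hk]
    rw [hv, Matrix.mulVec_single_one] at this
    simp only [single_dotProduct, one_mul] at this
    rw [show Cfsg.hermForm 3 F 4 (Pi.single i 1) (Pi.single j 1) = (1 : Matrix (Fin 3) (Fin 3) F) i j by
      simp only [Cfsg.hermForm, Fin.sum_univ_three, Matrix.one_apply]
      fin_cases i <;> fin_cases j <;> simp] at this
    exact this
  · intro h u v
    change Cfsg.hermForm 3 F 4 (A.mulVec u) (A.mulVec v) = _
    rw [hform, h, Matrix.one_mulVec]
    rfl

end Cfsg.Agent.Spectra.UThreeFourGraph
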