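import Cfsg.Agent.Spectra.UThreeFourGraph.Checks

/-!
# Element orders excluded in `SU(3,4)`
-/

set_option autoImplicit false

namespace Cfsg.Agent.Spectra.UThreeFourGraph

/-- A faithful matrix model whose image is the whole special unitary group. -/
structure Model (L : Type*) [Group L] where
  rho : L →* Mat3
  inj : Function.Injective rho
  lift : ∀ A, UnitOne A → ∃ g, rho g = A
  unitary : ∀ g, UnitOne (rho g)
  card : Nat.card L = 62400

/-- The circulant matrix. -/
def circ (a b c : K16) : Mat3 := !![a, b, c; c, a, b; b, c, a]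

def zMat : Mat3 := toMat (at2 prodPair 0).1

def pMat : Mat3 := toMat cyclicPerm

theorem ok_prod : ((at2 prodPair 0).1).unit = true ∧ cyclicPerm.unit = true ∧ krylovInv.ok = true := by
  have h := ok_all
  simp only [Bool.and_eq_true, ok2] at h
  exact ⟨h.1.1.1.1.2.1, h.1.1.1.2, h.1.1.2⟩

theorem unit_ok {m : M9} (h : m.unit = true) : m.ok = true := by
  simp only [M9.unit, Bool.and_eq_true] at h
  exact h.1

theorem eq_pow_three {M : Type*} [Monoid M] (a : M) : a * (a * a) = a ^ 3 := by rw [pow_succ', sq]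

theorem p_facts : pMat * (pMat * pMat) = 1 ∧ pMat ≠ 1 ∧ pMat * zMat = zMat ^ 3 * pMat := by
  have hp := ofMat_toMat (unit_ok ok_prod.2.1)
  have hz := ofMat_toMat (unit_ok ok_prod.1)
  have hn := gen_not
  simp only [Bool.and_eq_true, Bool.not_eq_true', M9.eqb_iff] at hn
  refine ⟨ofMat_injective ?_, fun h => ?_, ofMat_injective ?_⟩
  · rw [ofMat_mul, ofMat_mul, pMat, hp, ofMat_one, hn.2]
  · have := hn.1.2
    rw [← hp, show toMat cyclicPerm = 1 from h, ofMat_one] at this
    rw [(M9.eqb_iff one9 one9).mpr rfl] at this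
    exact Bool.noConfusion this
  · rw [← eq_pow_three, ofMat_mul, ofMat_mul, ofMat_mul, ofMat_mul, pMat, zMat, hp, hz,
      (M9.eqb_iff _ _).mp normal_relation]

theorem z_facts : zMat ^ 13 = 1 ∧ zMat ≠ 1 := by
  have h13 : (at2 prodPair 0).1 = ofMat zMat := (ofMat_toMat (unit_ok ok_prod.1)).symm
  have hn := gen_not
  simp only [Bool.and_eq_true, Bool.not_eq_true'] at hn
  have hg := gen_orders
  simp only [Bool.and_eq_true, eqb2_iff] at hg
  have key : ∀ n : ℕ, (pow2 (at2 prodPair 0) n).1 = ofMat (zMat ^ n) := by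
    intro n
    induction n with
    | zero => rw [pow_zero, ofMat_one]; rfl
    | succ n ih => rw [pow2, pow_succ', ofMat_mul, ← ih, ← h13]; rfl
  refine ⟨ofMat_injective ?_, fun h => ?_⟩
  · rw [← key, hg.2, ofMat_one]; rfl
  · have := hn.1.1.2
    rw [h13, h, ofMat_one, (M9.eqb_iff one9 one9).mpr rfl] at this
    exact Bool.noConfusion this

theorem circ_of_commute {h : Mat3} (hc : pMat * h = h * pMat) :
    h = circ (h 0 0) (h 0 1) (h 0 2) := by
  have hP : pMat = !![(0 : K16), 0, 1; 1, 0, 0; 0, 1, 0] := by decide +kernel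
  have e := fun i j => congrFun (congrFun hc i) j
  rw [hP] at e
  have e1 := e 0 0; have e2 := e 0 1; have e3 := e 0 2; have e4 := e 1 0; have e5 := e 1 1
  have e6 := e 1 2; have e7 := e 2 0; have e8 := e 2 1; have e9 := e 2 2
  simp [Matrix.mul_apply, Fin.sum_univ_three] at e1 e2 e3 e4 e5 e6 e7 e8 e9
  ext i j : 1
  fin_cases i <;> fin_cases j <;> simp [circ] <;> grind

theorem circ_sq (a b c : K16) : circ a b c * circ a b c = circ (a * a) (c * c) (b * b) := by
  have hd : ∀ x : K16, x + x = 0 := fun x => (two_K16 x).1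
  ext i j : 1
  fin_cases i <;> fin_cases j <;> simp [circ, Matrix.mul_apply, Fin.sum_univ_three] <;>
    first
      | linear_combination hd (b * c)
      | linear_combination hd (a * b)
      | linear_combination hd (a * c)

theorem circ_injective {a b c a' b' c' : K16} (h : circ a b c = circ a' b' c') : a = a' ∧ b = b' ∧ c = c' :=
  ⟨by simpa [circ] using congrFun (congrFun h 0) 0, by simpa [circ] using congrFun (congrFun h 0) 1,
    by simpa [circ] using congrFun (congrFun h 0) 2⟩

theorem circ_one : circ 1 0 0 = 1 := by decide +kernel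

theorem circ_pow_sixteen (a b c : K16) : circ a b c ^ 16 = circ a b c := by
  rw [show circ a b c ^ 16 = ((circ a b c * circ a b c) * (circ a b c * circ a b c)) *
      ((circ a b c * circ a b c) * (circ a b c * circ a b c)) *
      (((circ a b c * circ a b c) * (circ a b c * circ a b c)) *
      ((circ a b c * circ a b c) * (circ a b c * circ a b c))) by noncomm_ring]
  have key : ∀ x : K16,
      x * x * (x * x) * (x * x * (x * x)) * (x * x * (x * x) * (x * x * (x * x))) = x :=
    fun x => Eq.trans (by ring) (two_K16 x).2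
  simp only [circ_sq, key]

theorem sq_add_commute {A B : Mat3} (h : A * B = B * A) : (A + B) * (A + B) = A * A + B * B := by
  have hd : ∀ M : Mat3, M + M = 0 := fun M => by ext i j : 1; exact (two_K16 _).1
  rw [add_mul, mul_add, mul_add, ← h]
  rw [show A * A + A * B + (A * B + B * B) = A * A + B * B + (A * B + A * B) by abel, hd, add_zero]

/-- Combinations of the first three powers. -/
def comb (c : Fin 3 → K16) (A : Mat3) : Mat3 := c 0 • 1 + c 1 • A + c 2 • (A * A)

theorem comb_pow_two_pow (c : Fin 3 → K16) (A : Mat3) (n : ℕ) :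
    comb c A ^ 2 ^ n = comb (fun i => c i ^ 2 ^ n) (A ^ 2 ^ n) := by
  induction n with
  | zero => simp
  | succ n ih =>
    rw [pow_succ, pow_mul, ih, sq]
    set d := fun i => c i ^ 2 ^ n
    set B := A ^ 2 ^ n
    have hB : A ^ (2 ^ n * 2) = B * B := by rw [pow_mul, sq]
    simp only [comb, hB, pow_mul, sq]
    rw [sq_add_commute, sq_add_commute]
    · simp only [smul_mul_smul_comm, one_mul, mul_assoc, d]
    · simp only [smul_mul_smul_comm, one_mul, mul_one]; rw [mul_comm]
    · simp only [add_mul, mul_add, smul_mul_smul_comm, one_mul, mul_one, mul_assoc]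
      rw [mul_comm (d 2) (d 0), mul_comm (d 2) (d 1)]

theorem commute_z {h : Mat3} (hc : zMat * h = h * zMat) : ∃ c, h = comb c zMat := by
  set v : Fin 3 → K16 := ![1, 0, 0] with hv
  let K : Mat3 := Matrix.of fun i j => ((zMat ^ (j : ℕ)).mulVec v) i
  have hKL : K * toMat krylovInv = 1 := by
    apply ofMat_injective
    rw [ofMat_mul, ofMat_toMat ok_prod.2.2, ofMat_one]
    have h := (M9.eqb_iff _ _).mp krylov_check
    have hz := ofMat_toMat (unit_ok ok_prod.1)
    rw [← hz, show (⟨1, 0, 0⟩ : V3) = ofVec v from ((V3.eqb_iff _ _).mp (by decide +kernel)).symm,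
      ← ofVec_mulVec, ← ofVec_mulVec] at h
    refine Eq.trans ?_ h
    congr 1
  set c : Fin 3 → K16 := (toMat krylovInv).mulVec (h.mulVec v)
  refine ⟨c, ?_⟩
  have hP : (comb c zMat).mulVec v = h.mulVec v := by
    have : (comb c zMat).mulVec v = K.mulVec c := by
      funext i
      simp only [comb, Matrix.add_mulVec, Matrix.smul_mulVec, Pi.add_apply, Pi.smul_apply, smul_eq_mul,
        Matrix.mulVec, dotProduct, Matrix.add_apply, Matrix.smul_apply, K, Matrix.of_apply, Fin.sum_univ_three, Fin.val_zero, Fin.val_one,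
        Fin.val_two, pow_zero, pow_one, sq]
      ring
    rw [this, Matrix.mulVec_mulVec, hKL, Matrix.one_mulVec]
  have hPc : zMat * comb c zMat = comb c zMat * zMat := by
    simp only [comb, mul_add, add_mul, mul_smul_comm, smul_mul_assoc, mul_one, one_mul, mul_assoc]
  have hK : h * K = comb c zMat * K := by
    ext i j : 1
    have e : h.mulVec ((zMat ^ (j : ℕ)).mulVec v) = (comb c zMat).mulVec ((zMat ^ (j : ℕ)).mulVec v) := by
      rw [Matrix.mulVec_mulVec, Matrix.mulVec_mulVec, ← (Commute.pow_left hc _).eq,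
        ← (Commute.pow_left hPc _).eq, ← Matrix.mulVec_mulVec, ← Matrix.mulVec_mulVec, hP]
    exact congrFun e i
  have := congrArg (· * toMat krylovInv) hK
  simpa [mul_assoc, hKL] using this

theorem z_circ : ∀ b c : K16, zMat * circ 0 b c = circ 0 b c * zMat → b = 0 ∧ c = 0 := by decide +kernel

/-- An element of order two, three or five commuting with the element of order thirteen is trivial. -/
theorem z_centralizer {h : Mat3} (hu : UnitOne h) (hc : zMat * h = h * zMat) {q : ℕ}
    (hq : q = 2 ∨ q = 3 ∨ q = 5) (hh : h ^ q = 1) : h = 1 := by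
  obtain ⟨c, rfl⟩ := commute_z hc
  have h16 : ∀ x : K16, x ^ 16 = x := fun x => (two_K16 x).2
  rcases hq with rfl | hq
  · have e := comb_pow_two_pow c zMat 12
    have hz : zMat ^ 2 ^ 12 = zMat := by
      rw [show (2 : ℕ) ^ 12 = 13 * 315 + 1 by norm_num, pow_succ, pow_mul, z_facts.1, one_pow, one_mul]
    have hcp : (fun i => c i ^ 2 ^ 12) = c := funext fun i => by
      rw [show (2 : ℕ) ^ 12 = 16 * (16 * 16) by norm_num, pow_mul, h16, pow_mul, h16, h16]
    rw [hz, hcp, show (2 : ℕ) ^ 12 = 2 * 2048 by norm_num, pow_mul, hh, one_pow] at e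
    exact e.symm
  have h15 : comb c zMat ^ 15 = 1 := by
    rcases hq with rfl | rfl
    · rw [show 15 = 3 * 5 from rfl, pow_mul, hh, one_pow]
    · rw [show 15 = 5 * 3 from rfl, pow_mul, hh, one_pow]
  have hcp : (fun i => c i ^ 2 ^ 4) = c := funext fun i => h16 (c i)
  have e := comb_pow_two_pow c zMat 4
  rw [hcp, show (2 : ℕ) ^ 4 = 15 + 1 by norm_num, pow_succ, h15, one_mul] at e
  have hz16 : zMat ^ 16 = zMat ^ 3 := by
    rw [show 16 = 13 + 3 from rfl, pow_add, z_facts.1, one_mul]
  rw [hz16] at e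
  have hP : pMat * comb c zMat = comb c zMat * pMat := by
    calc pMat * comb c zMat = comb c (zMat ^ 3) * pMat := by
          have h1 := p_facts.2.2
          have h2 : pMat * (zMat * zMat) = zMat ^ 3 * zMat ^ 3 * pMat := by
            rw [← mul_assoc, h1, mul_assoc, h1, ← mul_assoc]
          simp only [comb, mul_add, add_mul, mul_smul_comm, smul_mul_assoc, mul_one, one_mul]
          rw [h1, h2]
      _ = comb c zMat * pMat := by rw [← e]
  set H := comb c zMat with hH
  have hcirc := circ_of_commute hP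
  set a := H 0 0
  set b := H 0 1
  set d := H 0 2
  have hsplit : H = a • 1 + circ 0 b d := by
    rw [hcirc]; ext i j : 1; fin_cases i <;> fin_cases j <;> simp [circ]
  obtain ⟨hb, hd⟩ := z_circ b d (by
    have e2 := hc
    rw [hsplit] at e2
    simp only [mul_add, add_mul, mul_smul_comm, smul_mul_assoc, mul_one, one_mul] at e2
    exact add_left_cancel e2)
  have hs : H = circ a 0 0 := by rw [hcirc, hb, hd]
  rw [hs] at hu ⊢
  obtain ⟨hu1, hu2⟩ := hu
  have hdet : a * a * a = 1 := by
    rw [Matrix.det_fin_three] at hu2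
    simpa [circ] using hu2
  have h5 : a * ((a * a) * (a * a)) = 1 := by
    simpa [circ, Matrix.mul_apply, Fin.sum_univ_three] using congrFun (congrFun hu1 0) 0
  have : a * a = 1 := by linear_combination h5 - (a * a) * hdet
  have ha : a = 1 := by linear_combination hdet - a * this
  rw [ha, circ_one]

/-- An element of order two or thirteen commuting with the element of order three is trivial. -/
theorem p_centralizer {h : Mat3} (hc : pMat * h = h * pMat) {q : ℕ}
    (hq : q = 2 ∨ q = 13) (hh : h ^ q = 1) : h = 1 := by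
  rw [circ_of_commute hc] at hh ⊢
  set a := h 0 0
  set b := h 0 1
  set c := h 0 2
  rcases hq with rfl | rfl
  · rw [sq, circ_sq, ← circ_one] at hh
    obtain ⟨ha, hcc, hb⟩ := circ_injective hh
    have hs : ∀ x : K16, (x * x = 1 → x = 1) ∧ (x * x = 0 → x = 0) := by decide +kernel
    rw [(hs a).1 ha, (hs b).2 hb, (hs c).2 hcc, circ_one]
  · have e := circ_pow_sixteen a b c
    rw [show 16 = 13 + 3 from rfl, pow_add, hh, one_mul] at e
    have h2 : circ a b c ^ 2 = 1 ∨ True := Or.inr trivial
    have hne : IsUnit (circ a b c) := IsUnit.of_pow_eq_one hh (by norm_num)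
    have hsq : circ a b c ^ 2 = 1 := by
      refine hne.mul_left_injective ?_
      show circ a b c ^ 2 * circ a b c = 1 * circ a b c
      rw [← pow_succ, one_mul, e]
    calc circ a b c = circ a b c * (circ a b c ^ 2) ^ 6 := by rw [hsq, one_pow, mul_one]
      _ = circ a b c ^ 13 := by rw [← pow_mul, ← pow_succ']
      _ = 1 := hh

namespace Model

variable {L : Type*} [Group L] (M : Model L)
include M

theorem conj_into {p : ℕ} [Fact p.Prime] (hdvd : p ∣ 62400) (hsq : ¬ p ^ 2 ∣ 62400)
    {a y : L} (ha : orderOf a = p) (hy : orderOf y = p) : ∃ g : L, ∃ k : ℕ, g * y ^ k * g⁻¹ = a := by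
  haveI : Finite L := Nat.finite_of_card_ne_zero (by rw [M.card]; norm_num)
  have hf : (Nat.card L).factorization p = 1 := by
    rw [M.card]
    refine le_antisymm ?_ ((Fact.out : p.Prime).factorization_pos_of_dvd (by norm_num) hdvd)
    by_contra hlt
    exact hsq ((pow_dvd_pow p (not_le.mp hlt)).trans (Nat.ordProj_dvd _ p))
  let S := Sylow.ofCard (p := p) (Subgroup.zpowers y) (by rw [Nat.card_zpowers, hy, hf, pow_one])
  let T := Sylow.ofCard (p := p) (Subgroup.zpowers a) (by rw [Nat.card_zpowers, ha, hf, pow_one])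
  obtain ⟨g, hg⟩ := MulAction.exists_smul_eq L S T
  have hx : a ∈ (T : Subgroup L) := Subgroup.mem_zpowers a
  rw [← hg, Sylow.coe_subgroup_smul] at hx
  obtain ⟨z, hz, he⟩ := hx
  obtain ⟨k, rfl⟩ := mem_powers_iff_mem_zpowers.mpr (show z ∈ Subgroup.zpowers y from hz)
  exact ⟨g, k, by rw [← he]; rfl⟩

theorem exists_z : ∃ z : L, M.rho z = zMat ∧ orderOf z = 13 := by
  obtain ⟨z, hz⟩ := M.lift zMat (unitOne_of_unit ok_prod.1)
  haveI : Fact (Nat.Prime 13) := ⟨by norm_num⟩
  refine ⟨z, hz, orderOf_eq_prime (M.inj ?_) fun h => z_facts.2 ?_⟩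
  · rw [map_pow, hz, z_facts.1, map_one]
  · rw [← hz, h, map_one]

theorem exists_p : ∃ z : L, M.rho z = pMat ∧ orderOf z = 3 := by
  obtain ⟨z, hz⟩ := M.lift pMat (unitOne_of_unit ok_prod.2.1)
  haveI : Fact (Nat.Prime 3) := ⟨by norm_num⟩
  refine ⟨z, hz, orderOf_eq_prime (M.inj ?_) fun h => p_facts.2.1 ?_⟩
  · rw [map_pow, hz, map_one, pow_succ', sq]; exact p_facts.1
  · rw [← hz, h, map_one]

theorem three_alone {y h : L} (hy : orderOf y = 3) {q : ℕ} (hq : q = 2 ∨ q = 13) (hh : orderOf h = q)
    (hc : Commute y h) : False := by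
  haveI : Fact (Nat.Prime 3) := ⟨by norm_num⟩
  obtain ⟨P, hP, hPo⟩ := M.exists_p
  obtain ⟨g, k, hgk⟩ := M.conj_into (p := 3) (by norm_num) (by norm_num) hPo hy
  have hc' : Commute P (g * h * g⁻¹) := hgk ▸ Commute.map (hc.pow_left k) (MulAut.conj g)
  have e := congrArg M.rho hc'.eq
  rw [map_mul M.rho P, map_mul M.rho _ P, hP] at e
  have hk : M.rho (g * h * g⁻¹) ^ q = 1 := by
    rw [← map_pow, conj_pow, (orderOf_dvd_iff_pow_eq_one.mp (dvd_of_eq hh)), mul_one, mul_inv_cancel, map_one]
  have := M.inj ((p_centralizer e hq hk).trans (map_one M.rho).symm)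
  simp at this
  rw [this, orderOf_one] at hh
  omega

theorem thirteen_five {y h : L} (hy : orderOf y = 13) (hh : orderOf h = 5) (hc : Commute y h) : False := by
  haveI : Fact (Nat.Prime 13) := ⟨by norm_num⟩
  obtain ⟨z, hz, hzo⟩ := M.exists_z
  obtain ⟨g, k, hgk⟩ := M.conj_into (p := 13) (by norm_num) (by norm_num) hzo hy
  have hc' : Commute z (g * h * g⁻¹) := hgk ▸ Commute.map (hc.pow_left k) (MulAut.conj g)
  have e := congrArg M.rho hc'.eq
  rw [map_mul M.rho z, map_mul M.rho _ z, hz] at e
  have hk : M.rho (g * h * g⁻¹) ^ 5 = 1 := by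
    rw [← map_pow, conj_pow, (orderOf_dvd_iff_pow_eq_one.mp (dvd_of_eq hh)), mul_one, mul_inv_cancel, map_one]
  have := M.inj ((z_centralizer (M.unitary _) e (Or.inr (Or.inr rfl)) hk).trans (map_one M.rho).symm)
  simp at this
  rw [this, orderOf_one] at hh
  omega

theorem thirteen_two {y h : L} (hy : orderOf y = 13) (hh : orderOf h = 2) (hc : Commute y h) : False := by
  haveI : Fact (Nat.Prime 13) := ⟨by norm_num⟩
  obtain ⟨z, hz, hzo⟩ := M.exists_z
  obtain ⟨g, k, hgk⟩ := M.conj_into (p := 13) (by norm_num) (by norm_num) hzo hy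
  have hc' : Commute z (g * h * g⁻¹) := hgk ▸ Commute.map (hc.pow_left k) (MulAut.conj g)
  have e := congrArg M.rho hc'.eq
  rw [map_mul M.rho z, map_mul M.rho _ z, hz] at e
  have hk : M.rho (g * h * g⁻¹) ^ 2 = 1 := by
    rw [← map_pow, conj_pow, (orderOf_dvd_iff_pow_eq_one.mp (dvd_of_eq hh)), mul_one, mul_inv_cancel, map_one]
  have := M.inj ((z_centralizer (M.unitary _) e (Or.inl rfl) hk).trans (map_one M.rho).symm)
  simp at this
  rw [this, orderOf_one] at hh
  omega

/-- The prime pairs which do not occur in an element order. -/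
def BadPair (p q : ℕ) : Prop := (p, q) ∈ [(2, 3), (2, 13), (3, 13), (5, 13)]

theorem no_bad_order {p q : ℕ} (hb : BadPair p q) (g : L) : ¬ p * q ∣ orderOf g := by
  haveI : Finite L := Nat.finite_of_card_ne_zero (by rw [M.card]; norm_num)
  intro h
  have hpos : 0 < orderOf g := orderOf_pos g
  have mk : ∀ d, d ∣ orderOf g → orderOf (g ^ (orderOf g / d)) = d := fun d hd => by
    have hd0 : 0 < d := Nat.pos_of_dvd_of_pos hd hpos
    rw [orderOf_pow_of_dvd (Nat.div_pos (Nat.le_of_dvd hpos hd) hd0).ne' (Nat.div_dvd_of_dvd hd),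
      Nat.div_div_self hd hpos.ne']
  have hx := mk p (dvd_trans (dvd_mul_right p q) h)
  have hy := mk q (dvd_trans (dvd_mul_left q p) h)
  have hc := Commute.pow_pow_self g (orderOf g / p) (orderOf g / q)
  simp only [BadPair, List.mem_cons, Prod.mk.injEq, List.not_mem_nil, or_false] at hb
  rcases hb with ⟨rfl, rfl⟩ | ⟨rfl, rfl⟩ | ⟨rfl, rfl⟩ | ⟨rfl, rfl⟩
  · exact M.three_alone hy (Or.inl rfl) hx hc.symm
  · exact M.thirteen_two hy hx hc.symm
  · exact M.three_alone hx (Or.inr rfl) hy hc
  · exact M.thirteen_five hy hx hc.symm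

end Model

end Cfsg.Agent.Spectra.UThreeFourGraph
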