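import Cfsg.Agent.Spectra.UThreeFourGraph.Orders

/-!
# The pairs of matrices generate a group projecting injectively

A coset table over two levels of point stabilisers bounds the submonoid generated by the two
generating pairs; distinct points make the first component determine the pair.
-/

set_option autoImplicit false

namespace Cfsg.Agent.Spectra.UThreeFourGraph

abbrev MPair : Type := Mat3 × Mat12

def real (x : Pair) : MPair := (toMat x.1, mat12 x.2)

theorem real_mul {x y : Pair} (hx : ok2 x = true) (hy : ok2 y = true) :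
    real x * real y = real (mul2 x y) := by
  simp only [ok2, Bool.and_eq_true] at hx hy
  refine Prod.ext ?_ (mul12_spec hx.2 hy.2).symm
  show toMat x.1 * toMat y.1 = toMat (x.1.mul y.1)
  have e : x.1.mul y.1 = ofMat (toMat x.1 * toMat y.1) := by
    rw [ofMat_mul, ofMat_toMat (unit_ok hx.1), ofMat_toMat (unit_ok hy.1)]
  rw [e]
  refine ofMat_injective (ofMat_toMat ?_).symm
  simp only [M9.ok, ofMat, Bool.and_eq_true, Nat.blt_eq]
  have hlt : ∀ z : K16, enc z < 16 := by decide +kernel
  simp only [hlt, and_self]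

theorem real_one : real one2 = 1 := by
  refine Prod.ext (ofMat_injective ?_) mat12_one
  rw [show (1 : MPair).1 = (1 : Mat3) from rfl, ofMat_one]
  exact ofMat_toMat (by decide +kernel)

/-- `real` of a table entry. -/
def R (T : List Pair) (i : ℕ) : MPair := real (at2 T i)

theorem ok_gen {i : ℕ} (h : i < 2) : ok2 (at2 genPairs i) = true := by
  have a := ok_all; simp only [Bool.and_eq_true] at a; exact of_allBelow a.1.1.1.1.1.1.1.1.1 i h

theorem ok_upper {i : ℕ} (h : i < 65) : ok2 (at2 upper i) = true := by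
  have a := ok_all; simp only [Bool.and_eq_true] at a; exact of_allBelow a.1.1.1.1.1.1.1.1.2 i h

theorem ok_middle {i : ℕ} (h : i < 64) : ok2 (at2 middle i) = true := by
  have a := ok_all; simp only [Bool.and_eq_true] at a; exact of_allBelow a.1.1.1.1.1.1.1.2 i h

theorem ok_lower {i : ℕ} (h : i < 15) : ok2 (at2 lower i) = true := by
  have a := ok_all; simp only [Bool.and_eq_true] at a; exact of_allBelow a.1.1.1.1.1.1.2 i h

theorem ok_steps {i : ℕ} (h : i < 2) : ok2 (at2 steps i) = true := by
  have a := ok_all; simp only [Bool.and_eq_true] at a; exact of_allBelow a.1.1.1.1.1.2 i h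

theorem ok2_mul {x y : Pair} (hx : ok2 x = true) (h : (mul2 x y).1.unit = true) : ok2 (mul2 x y) = true := by
  simp only [ok2, Bool.and_eq_true] at hx ⊢
  exact ⟨h, ok12_mul12 hx.2⟩

theorem real_head {T : List Pair} (h : eqb2 (at2 T 0) one2 = true) : R T 0 = 1 := by
  rw [R, (eqb2_iff _ _).mp h, real_one]

theorem real_eq {x y z w : Pair} (hx : ok2 x = true) (hy : ok2 y = true) (hz : ok2 z = true)
    (hw : ok2 w = true) (h : eqb2 (mul2 x y) (mul2 z w) = true) : real x * real y = real z * real w := by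
  rw [real_mul hx hy, real_mul hz hw, (eqb2_iff _ _).mp h]

/-- The lower level is a cyclic monoid. -/
def lowerSet : Submonoid MPair := Submonoid.powers (R lower 1)

theorem lower_pow : ∀ n : ℕ, R lower 1 ^ n = R lower (n % 15) := by
  have h := heads
  simp only [Bool.and_eq_true] at h
  intro n
  induction n with
  | zero => rw [pow_zero, Nat.zero_mod, real_head h.1.2]
  | succ n ih =>
    have hn : n % 15 < 15 := Nat.mod_lt _ (by norm_num)
    rw [pow_succ', ih, R, R, real_mul (ok_lower (by norm_num)) (ok_lower hn),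
      (eqb2_iff _ _).mp (of_allBelow lower_powers _ hn), Nat.mod_add_mod]
    rfl

theorem mem_lowerSet {x : MPair} : x ∈ lowerSet ↔ ∃ k < 15, x = R lower k := by
  constructor
  · rintro ⟨n, rfl⟩
    exact ⟨n % 15, Nat.mod_lt _ (by norm_num), lower_pow n⟩
  · rintro ⟨k, hk, rfl⟩
    exact ⟨k, by show R lower 1 ^ k = _; rw [lower_pow, Nat.mod_eq_of_lt hk]⟩

/-- The middle level. -/
def midSet : Set MPair := {x | ∃ j < 64, ∃ t ∈ lowerSet, x = R middle j * t}

/-- The elements keeping the middle level. -/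
def midStab : Submonoid MPair where
  carrier := {g | ∀ x ∈ midSet, g * x ∈ midSet}
  one_mem' := fun x hx => by rwa [one_mul]
  mul_mem' := fun {a b} ha hb x hx => by rw [mul_assoc]; exact ha _ (hb _ hx)

theorem ok_mid_mul : allBelow 64 (fun j => allBelow 15 (fun k =>
    ((at2 middle j).1.mul (at2 lower k).1).unit)) = true := by
  decide +kernel

theorem steps_mem {s : ℕ} (hs : s < 2) : R steps s ∈ midStab := by
  rintro _ ⟨j, hj, t, ht, rfl⟩
  have hc : midCheck s = true := by
    rcases (show s = 0 ∨ s = 1 by omega) with rfl | rfl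
    exacts [mid_zero, mid_one]
  have h := of_allBelow hc j hj
  simp only [Bool.and_eq_true, Nat.blt_eq] at h
  refine ⟨_, h.1.1, R lower (midRow s j).2 * t,
    lowerSet.mul_mem (mem_lowerSet.mpr ⟨_, h.1.2, rfl⟩) ht, ?_⟩
  rw [← mul_assoc, ← mul_assoc]
  congr 1
  exact real_eq (ok_steps hs) (ok_middle hj) (ok_middle h.1.1) (ok_lower h.1.2) h.2

theorem middle_mem : ∀ j < 64, R middle j ∈ midStab := by
  intro j
  induction j using Nat.strong_induction_on with
  | _ j ih =>
    intro hj
    have h := of_allBelow mid_tree j hj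
    simp only [Bool.or_eq_true, beq_iff_eq, Bool.and_eq_true, Nat.blt_eq, eqb2_iff] at h
    rcases h with rfl | ⟨⟨hi, hs⟩, he⟩
    · have a := heads
      simp only [Bool.and_eq_true] at a
      rw [real_head a.1.1.2]
      exact midStab.one_mem
    · rw [R, ← he, ← real_mul (ok_steps hs) (ok_middle (hi.trans hj))]
      exact midStab.mul_mem (steps_mem hs) (ih _ hi (hi.trans hj))

theorem lower_mem {t : MPair} (ht : t ∈ lowerSet) : t ∈ midStab := by
  refine Submonoid.powers_le.mpr ?_ ht
  have h := heads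
  simp only [Bool.and_eq_true, eqb2_iff] at h
  rw [R, ← h.2]
  exact steps_mem (by norm_num)

/-- All three levels. -/
def topSet : Set MPair := {x | ∃ i < 65, ∃ m ∈ midSet, x = R upper i * m}

theorem one_mem_midSet : (1 : MPair) ∈ midSet := by
  have h := heads
  simp only [Bool.and_eq_true] at h
  exact ⟨0, by norm_num, 1, lowerSet.one_mem, by rw [real_head h.1.1.2, mul_one]⟩

theorem one_mem_topSet : (1 : MPair) ∈ topSet := by
  have h := heads
  simp only [Bool.and_eq_true] at h
  exact ⟨0, by norm_num, 1, one_mem_midSet, by rw [real_head h.1.1.1, mul_one]⟩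

theorem gen_step {s : ℕ} (hs : s < 2) {x : MPair} (hx : x ∈ topSet) : R genPairs s * x ∈ topSet := by
  obtain ⟨i, hi, m, hm, rfl⟩ := hx
  have hc : topCheck s = true := by
    rcases (show s = 0 ∨ s = 1 by omega) with rfl | rfl
    exacts [top_zero, top_one]
  have h := of_allBelow hc i hi
  simp only [Bool.and_eq_true, Nat.blt_eq] at h
  obtain ⟨⟨⟨ha, hb⟩, hd⟩, he⟩ := h
  have hu : ok2 (mul2 (at2 middle (topRow s i).2.1) (at2 lower (topRow s i).2.2)) = true :=
    ok2_mul (ok_middle hb) (of_allBelow (of_allBelow ok_mid_mul _ hb) _ hd)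
  have e := real_eq (ok_gen hs) (ok_upper hi) (ok_upper ha) hu he
  rw [← real_mul (ok_middle hb) (ok_lower hd)] at e
  refine ⟨_, ha, R middle (topRow s i).2.1 * (R lower (topRow s i).2.2 * m), ?_, ?_⟩
  · exact middle_mem _ hb _ (lower_mem (mem_lowerSet.mpr ⟨_, hd, rfl⟩) _ hm)
  · rw [← mul_assoc, show R genPairs s * R upper i = real (at2 upper (topRow s i).1) *
      (real (at2 middle (topRow s i).2.1) * real (at2 lower (topRow s i).2.2)) from e]
    simp only [R, mul_assoc]

theorem closure_subset {x : MPair} (hx : x ∈ Submonoid.closure {R genPairs 0, R genPairs 1}) : x ∈ topSet := by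
  suffices ∀ y ∈ topSet, x * y ∈ topSet by simpa using this 1 one_mem_topSet
  induction hx using Submonoid.closure_induction with
  | mem a ha =>
    intro y hy
    rcases ha with rfl | ha
    · exact gen_step (by norm_num) hy
    · rw [Set.mem_singleton_iff] at ha; subst ha; exact gen_step (by norm_num) hy
  | one => simp
  | mul a b _ _ iha ihb =>
    intro y hy
    rw [mul_assoc]
    exact iha _ (ihb _ hy)

/-! ## Uniqueness -/

def vecOne : Fin 3 → K16 := ![dec baseOne.x, dec baseOne.y, dec baseOne.z]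

def vecTwo : Fin 3 → K16 := ![dec baseTwo.x, dec baseTwo.y, dec baseTwo.z]

theorem vec_code : ofVec vecOne = baseOne ∧ ofVec vecTwo = baseTwo :=
  ⟨(V3.eqb_iff _ _).mp (by decide +kernel), (V3.eqb_iff _ _).mp (by decide +kernel)⟩

theorem ofVec_injective : Function.Injective ofVec := fun v w h => by
  simp only [ofVec, V3.mk.injEq, enc_injective.eq_iff] at h
  funext i
  fin_cases i <;> simp [h]

theorem ofVec_smul (c : K16) (v : Fin 3 → K16) : ofVec (c • v) = V3.smul (enc c) (ofVec v) := by
  simp only [ofVec, V3.smul, Pi.smul_apply, smul_eq_mul, enc_mul]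

theorem mulVec_eig {m : M9} (hok : m.ok = true) {v : Fin 3 → K16} {c : ℕ} (hc : c < 16) (hc0 : c ≠ 0)
    (h : (m.mulV (ofVec v)).eqb (V3.smul c (ofVec v)) = true) :
    (toMat m).mulVec v = dec c • v ∧ dec c ≠ 0 := by
  refine ⟨ofVec_injective ?_, fun e => hc0 ?_⟩
  · rw [ofVec_mulVec, ofMat_toMat hok, (V3.eqb_iff _ _).mp h, ofVec_smul, enc_dec ⟨c, hc⟩]
  · have := congrArg enc e
    rw [enc_dec ⟨c, hc⟩] at this
    exact this.trans (by decide +kernel)

theorem dep_of_proportional {v w : Fin 3 → K16} {a b : K16} (ha : a ≠ 0) (h : a • v = b • w) :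
    V3.dep (ofVec v) (ofVec w) = true := by
  rcases inverses_K16 a with h0 | ⟨a', ha'⟩
  · exact absurd h0 ha
  have hv : v = (a' * b) • w := by
    rw [← smul_smul, ← h, smul_smul, mul_comm, ha', one_smul]
  subst hv
  simp only [V3.dep, ofVec, Bool.and_eq_true, beq_iff_eq, ← enc_mul, Pi.smul_apply, smul_eq_mul]
  refine ⟨⟨?_, ?_⟩, ?_⟩ <;> congr 1 <;> ring

theorem lower_eig {t : MPair} (ht : t ∈ lowerSet) :
    (∃ c : K16, c ≠ 0 ∧ t.1.mulVec vecOne = c • vecOne) ∧ ∃ c : K16, c ≠ 0 ∧ t.1.mulVec vecTwo = c • vecTwo := by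
  obtain ⟨k, hk, rfl⟩ := mem_lowerSet.mp ht
  have h := of_allBelow eig_lower k hk
  simp only [Bool.and_eq_true, Nat.blt_eq, Bool.not_eq_true', beq_eq_false_iff_ne] at h
  have hok : (at2 lower k).1.ok = true := by
    have := ok_lower hk; simp only [ok2, Bool.and_eq_true] at this; exact unit_ok this.1
  obtain ⟨e1, n1⟩ := mulVec_eig hok h.1.1.1 h.1.1.2 (v := vecOne) (by rw [vec_code.1]; exact h.1.2)
  obtain ⟨e2, n2⟩ := mulVec_eig hok h.2.1.1 h.2.1.2 (v := vecTwo) (by rw [vec_code.2]; exact h.2.2)
  exact ⟨⟨_, n1, e1⟩, _, n2, e2⟩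

theorem midSet_eig {m : MPair} (hm : m ∈ midSet) : ∃ c : K16, c ≠ 0 ∧ m.1.mulVec vecOne = c • vecOne := by
  obtain ⟨j, hj, t, ht, rfl⟩ := hm
  obtain ⟨⟨c, hc, he⟩, -⟩ := lower_eig ht
  have h := of_allBelow eig_middle j hj
  simp only [Bool.and_eq_true, Nat.blt_eq, Bool.not_eq_true', beq_eq_false_iff_ne] at h
  have hok : (at2 middle j).1.ok = true := by
    have := ok_middle hj; simp only [ok2, Bool.and_eq_true] at this; exact unit_ok this.1
  obtain ⟨e, hd⟩ := mulVec_eig hok h.1.1 h.1.2 (v := vecOne) (by rw [vec_code.1]; exact h.2)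
  refine ⟨c * dec (eigOne.getD j 0), ?_, ?_⟩
  · intro h0
    rcases inverses_K16 c with h1 | ⟨c', hc'⟩
    · exact hc h1
    · exact hd (by linear_combination c' * h0 - dec (eigOne.getD j 0) * hc')
  · show (toMat _ * t.1).mulVec vecOne = _
    rw [← Matrix.mulVec_mulVec, he, Matrix.mulVec_smul, e, smul_smul]

theorem det_unit_of {i : ℕ} {T : List Pair} (hok : ok2 (at2 T i) = true) :
    ∃ A : Mat3, A * (R T i).1 = 1 := by
  simp only [ok2, Bool.and_eq_true] at hok
  exact ⟨_, mul_eq_one_comm.mp (mul_eq_one_comm.mp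
    (Matrix.nonsing_inv_mul _ (by
      show IsUnit (toMat (at2 T i).1).det
      rw [(unitOne_of_unit hok.1).2]; exact isUnit_one)))⟩

theorem upper_unique {i j : ℕ} (hi : i < 65) (hj : j < 65) (hlt : j < i) {m m' : MPair}
    (hm : m ∈ midSet) (hm' : m' ∈ midSet) : (R upper i * m).1 ≠ (R upper j * m').1 := by
  intro h
  obtain ⟨a, ha, ea⟩ := midSet_eig hm
  obtain ⟨b, -, eb⟩ := midSet_eig hm'
  have e := congrArg (fun A : Mat3 => A.mulVec vecOne) h
  change ((R upper i).1 * m.1).mulVec vecOne = ((R upper j).1 * m'.1).mulVec vecOne at e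
  rw [← Matrix.mulVec_mulVec, ← Matrix.mulVec_mulVec, ea, eb, Matrix.mulVec_smul, Matrix.mulVec_smul] at e
  have hd := of_allBelow (of_allBelow upper_distinct i hi) j hlt
  have hoki : (at2 upper i).1.ok = true := by
    have := ok_upper hi; simp only [ok2, Bool.and_eq_true] at this; exact unit_ok this.1
  have hokj : (at2 upper j).1.ok = true := by
    have := ok_upper hj; simp only [ok2, Bool.and_eq_true] at this; exact unit_ok this.1
  have hdep := dep_of_proportional ha e
  rw [ofVec_mulVec, ofVec_mulVec, vec_code.1] at hdep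
  simp only [R, real, ofMat_toMat hoki, ofMat_toMat hokj] at hdep
  rw [hdep] at hd
  exact Bool.noConfusion hd

theorem middle_unique {i j : ℕ} (hi : i < 64) (hj : j < 64) (hlt : j < i) {t t' : MPair}
    (ht : t ∈ lowerSet) (ht' : t' ∈ lowerSet) : (R middle i * t).1 ≠ (R middle j * t').1 := by
  intro h
  obtain ⟨-, a, ha, ea⟩ := lower_eig ht
  obtain ⟨-, b, -, eb⟩ := lower_eig ht'
  have e := congrArg (fun A : Mat3 => A.mulVec vecTwo) h
  change ((R middle i).1 * t.1).mulVec vecTwo = ((R middle j).1 * t'.1).mulVec vecTwo at e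
  rw [← Matrix.mulVec_mulVec, ← Matrix.mulVec_mulVec, ea, eb, Matrix.mulVec_smul, Matrix.mulVec_smul] at e
  have hd := of_allBelow (of_allBelow middle_distinct i hi) j hlt
  have hoki : (at2 middle i).1.ok = true := by
    have := ok_middle hi; simp only [ok2, Bool.and_eq_true] at this; exact unit_ok this.1
  have hokj : (at2 middle j).1.ok = true := by
    have := ok_middle hj; simp only [ok2, Bool.and_eq_true] at this; exact unit_ok this.1
  have hdep := dep_of_proportional ha e
  rw [ofVec_mulVec, ofVec_mulVec, vec_code.2] at hdep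
  simp only [R, real, ofMat_toMat hoki, ofMat_toMat hokj] at hdep
  rw [hdep] at hd
  exact Bool.noConfusion hd

theorem topSet_fst_injective {x y : MPair} (hx : x ∈ topSet) (hy : y ∈ topSet) (h : x.1 = y.1) : x = y := by
  obtain ⟨i, hi, m, hm, rfl⟩ := hx
  obtain ⟨i', hi', m', hm', rfl⟩ := hy
  rcases lt_trichotomy i i' with hl | rfl | hl
  · exact absurd h.symm (upper_unique hi' hi hl hm' hm)
  swap
  · exact absurd h (upper_unique hi hi' hl hm hm')
  obtain ⟨A, hA⟩ := det_unit_of (ok_upper hi)
  have h' : m.1 = m'.1 := by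
    have := congrArg (A * ·) h
    simpa [← mul_assoc, hA] using this
  suffices m = m' by rw [this]
  obtain ⟨j, hj, t, ht, rfl⟩ := hm
  obtain ⟨j', hj', t', ht', rfl⟩ := hm'
  rcases lt_trichotomy j j' with hl | rfl | hl
  · exact absurd h'.symm (middle_unique hj' hj hl ht' ht)
  swap
  · exact absurd h' (middle_unique hj hj' hl ht ht')
  obtain ⟨B, hB⟩ := det_unit_of (ok_middle hj)
  have h'' : t.1 = t'.1 := by
    have := congrArg (B * ·) h'
    simpa [← mul_assoc, hB] using this
  suffices t = t' by rw [this]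
  obtain ⟨k, hk, rfl⟩ := mem_lowerSet.mp ht
  obtain ⟨k', hk', rfl⟩ := mem_lowerSet.mp ht'
  have hoka : (at2 lower k).1.ok = true := by
    have := ok_lower hk; simp only [ok2, Bool.and_eq_true] at this; exact unit_ok this.1
  have hokb : (at2 lower k').1.ok = true := by
    have := ok_lower hk'; simp only [ok2, Bool.and_eq_true] at this; exact unit_ok this.1
  have e : (at2 lower k).1 = (at2 lower k').1 := by
    rw [← ofMat_toMat hoka, ← ofMat_toMat hokb]; exact congrArg ofMat h''
  rcases lt_trichotomy k k' with hl | rfl | hl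
  · have := of_allBelow (of_allBelow lower_distinct k' hk') k hl
    rw [(M9.eqb_iff _ _).mpr e.symm] at this
    exact Bool.noConfusion this
  · rfl
  · have := of_allBelow (of_allBelow lower_distinct k hk) k' hl
    rw [(M9.eqb_iff _ _).mpr e] at this
    exact Bool.noConfusion this

end Cfsg.Agent.Spectra.UThreeFourGraph
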