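import Cfsg.Agent.Janko.Check

/-!
# Packed `12 × 12` matrices modulo five
-/

set_option autoImplicit false

namespace Cfsg.Agent.Spectra.UThreeFourGraph

open Cfsg.Lib.PermCert Cfsg.Lib.Janko

abbrev Mat12 : Type := Matrix (Fin 12) (Fin 12) (ZMod 5)

def red12 (s : ℕ) : ℕ := packL (fun j => ap s j % 5) 12

def row12 (r : ℕ) (B : List ℕ) : ℕ :=
  red12 (((List.range 12).map fun k => ap r k * B.getD k 0).sum)

def mul12 (A B : List ℕ) : List ℕ := A.map fun r => row12 r B

def ok12 (A : List ℕ) : Bool :=
  A.length == 12 && A.all fun r => (r == packL (ap r) 12) && (List.range 12).all fun j => Nat.blt (ap r j) 5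

def mat12 (A : List ℕ) : Mat12 := Matrix.of fun i j => ((ap (A.getD i 0) j : ℕ) : ZMod 5)

def one12 : List ℕ := (List.range 12).map fun i => packL (fun j => if i = j then 1 else 0) 12

theorem ok12_row {A : List ℕ} (h : ok12 A = true) {i : ℕ} (hi : i < 12) :
    A.getD i 0 = packL (ap (A.getD i 0)) 12 ∧ ∀ j < 12, ap (A.getD i 0) j < 5 := by
  simp only [ok12, Bool.and_eq_true, beq_iff_eq, List.all_eq_true, List.mem_range, Nat.blt, Nat.ble_eq] at h
  have hl : i < A.length := by omega
  rw [List.getD_eq_getElem _ _ hl]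
  obtain ⟨h1, h2⟩ := h.2 _ (List.getElem_mem hl)
  exact ⟨h1, fun j hj => h2 j hj⟩

theorem mul12_spec {A B : List ℕ} (hA : ok12 A = true) (hB : ok12 B = true) :
    mat12 (mul12 A B) = mat12 A * mat12 B := by
  have lA : A.length = 12 := by
    simp only [ok12, Bool.and_eq_true, beq_iff_eq] at hA; exact hA.1
  funext i j
  simp only [Matrix.mul_apply, mat12, Matrix.of_apply, mul12]
  rw [List.getD_eq_getElem _ _ (by simp [lA]), List.getElem_map, ← List.getD_eq_getElem _ 0]
  obtain ⟨-, ha⟩ := ok12_row hA i.2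
  have hrw : ((List.range 12).map fun k => ap (A.getD i 0) k * B.getD k 0) =
      (List.range 12).map fun k => ap (A.getD i 0) k * packL (ap (B.getD k 0)) 12 :=
    List.map_congr_left fun k hk => by rw [← (ok12_row hB (List.mem_range.mp hk)).1]
  have hlt : ∀ l < 12, ((List.range 12).map fun k => ap (A.getD i 0) k * ap (B.getD k 0) l).sum < 65536 := by
    intro l hl
    have : ((List.range 12).map fun k => ap (A.getD i 0) k * ap (B.getD k 0) l).sum ≤ 12 * 16 := by
      refine (List.sum_le_card_nsmul _ 16 fun x hx => ?_).trans (le_of_eq (by simp))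
      obtain ⟨k, hk, rfl⟩ := List.mem_map.mp hx
      have hk12 := List.mem_range.mp hk
      have h1 := ha k hk12
      have h2 := (ok12_row hB hk12).2 l hl
      calc _ ≤ 4 * 4 := Nat.mul_le_mul (by omega) (by omega)
        _ = 16 := rfl
    omega
  rw [row12, red12, hrw, packL_linear, ap_packL 12 _ (fun l hl => by omega) j j.2,
    ap_packL 12 _ hlt j j.2, ZMod.natCast_mod]
  simp only [Fin.sum_univ_succ, Fin.sum_univ_zero, List.range_succ, List.range_zero, List.nil_append,
    List.cons_append, List.map_cons, List.map_nil, List.sum_cons, List.sum_nil]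
  push_cast
  rfl

theorem ok12_mul12 {A B : List ℕ} (hA : ok12 A = true) : ok12 (mul12 A B) = true := by
  have lA : A.length = 12 := by
    simp only [ok12, Bool.and_eq_true, beq_iff_eq] at hA; exact hA.1
  simp only [ok12, mul12, List.length_map, lA, Bool.and_eq_true, beq_iff_eq, List.all_eq_true, List.mem_map,
    List.mem_range, true_and]
  rintro x ⟨r, -, rfl⟩
  rw [row12, red12]
  refine ⟨packL_ext 12 _ _ fun j hj => ?_, fun j hj => ?_⟩ <;> rw [ap_packL 12 _ (fun l _ => by omega) j hj]
  exact Nat.ble_eq.mpr (Nat.mod_lt _ (by norm_num))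

theorem mat12_one : mat12 one12 = 1 := by decide +kernel

end Cfsg.Agent.Spectra.UThreeFourGraph
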